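import Mathlib
import Cfsg.Agent.CoprimeClass.Main
import Cfsg.Agent.ItoRankThree.Basic
import Cfsg.Agent.GroupSub.Basic
import Cfsg.Agent.Layer.Subnormal
import Cfsg.Agent.S0205
import Cfsg.Agent.S4037
import Cfsg.Agent.S4127
import Cfsg.Agent.S4135

/-!
# Centreless groups with three non-trivial class sizes: general tools
-/

set_option autoImplicit false
set_option linter.unusedSectionVars false
set_option linter.style.haveILetI false

namespace Cfsg.Agent.ClassThree

open Cfsg.Agent.CoprimeClass Subgroup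

variable {G : Type*} [Group G]

/-- Trivial centre, not solvable. -/
structure Hyp (G : Type*) [Group G] : Prop where
  zc : center G = ⊥
  ns : ¬ Group.IsSolvable G

theorem conj_ne_one {g x : G} (hx : x ≠ 1) : g * x * g⁻¹ ≠ 1 := fun e => hx (conj_eq_one_iff.mp e)

theorem mem_cz_conj {g x h : G} : h ∈ cz (g * x * g⁻¹) ↔ g⁻¹ * h * g ∈ cz x := by
  rw [mem_cz, mem_cz]
  constructor <;> intro e
  · calc g⁻¹ * h * g * x = g⁻¹ * (h * (g * x * g⁻¹)) * g := by group
      _ = g⁻¹ * (g * x * g⁻¹ * h) * g := by rw [e]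
      _ = x * (g⁻¹ * h * g) := by group
  · calc h * (g * x * g⁻¹) = g * (g⁻¹ * h * g * x) * g⁻¹ := by group
      _ = g * (x * (g⁻¹ * h * g)) * g⁻¹ := by rw [e]
      _ = g * x * g⁻¹ * h := by group

theorem conj_mem_cz_iff {g x h : G} : g * h * g⁻¹ ∈ cz (g * x * g⁻¹) ↔ h ∈ cz x := by
  rw [mem_cz_conj]
  simp [mul_assoc]

theorem orderOf_conj (g x : G) : orderOf (g * x * g⁻¹) = orderOf x :=
  (orderOf_injective (MulAut.conj g).toMonoidHom (MulAut.conj g).injective x).symm ▸ rfl

theorem mem_cz_self (x : G) : x ∈ cz x := mem_cz.2 rfl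

theorem mem_cz_comm {x y : G} : x ∈ cz y ↔ y ∈ cz x := by
  rw [mem_cz, mem_cz, eq_comm]

/-- the intersection of the subgroup with a centraliser, seen inside the subgroup -/
theorem centralizer_subtype (K : Subgroup G) (g : ↥K) :
    centralizer ({g} : Set ↥K) = (cz (g : G)).subgroupOf K := by
  ext y
  rw [mem_subgroupOf, mem_cz, mem_centralizer_singleton_iff]
  exact ⟨fun h => congrArg Subtype.val h, fun h => Subtype.ext h⟩

variable [Finite G]

theorem exists_order {K : Subgroup G} {r : ℕ} (hr : r.Prime) (h : r ∣ Nat.card K) :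
    ∃ x ∈ K, orderOf x = r := by
  haveI := Fact.mk hr
  obtain ⟨x, hx⟩ := exists_prime_orderOf_dvd_card' r h
  exact ⟨x, x.2, by rw [orderOf_coe, hx]⟩

theorem orderOf_dvd_card_of_mem {K : Subgroup G} {x : G} (hx : x ∈ K) : orderOf x ∣ Nat.card K :=
  orderOf_dvd_natCard K hx

namespace Hyp

variable (hH : Hyp G)
include hH

theorem eq_one_of_central {z : G} (h : ∀ g : G, g * z = z * g) : z = 1 :=
  mem_bot.1 (hH.zc ▸ mem_center_iff.2 h)

theorem one_lt_sz {x : G} (hx : x ≠ 1) : 1 < sz x := by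
  by_contra h
  exact hx (mem_bot.1 (hH.zc ▸ central_of_sz_one (not_lt.1 h)))

theorem sz_ne_one {x : G} (hx : x ≠ 1) : sz x ≠ 1 := (hH.one_lt_sz hx).ne'

theorem even_card : Even (Nat.card G) := by
  by_contra h
  exact hH.ns (S0205.result (Nat.not_even_iff_odd.1 h))

theorem nontrivial : Nontrivial G := by
  by_contra h
  haveI := not_nontrivial_iff_subsingleton.1 h
  exact hH.ns inferInstance

theorem exists_not_dvd_sz {p : ℕ} (hp : p.Prime) : ∃ z : G, z ≠ 1 ∧ ¬ p ∣ sz z := by
  haveI := Fact.mk hp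
  by_cases h : p ∣ Nat.card G
  · obtain ⟨z, hz, -, h'⟩ := ItoRankThree.exists_sylow_center h (default : Sylow p G)
    exact ⟨z, ItoRankThree.ne_one_of_orderOf hp hz, h'⟩
  · haveI := hH.nontrivial
    obtain ⟨z, hz⟩ := exists_ne (1 : G)
    exact ⟨z, hz, fun hd => h (hd.trans (ItoRankThree.sz_dvd_card z))⟩

end Hyp

/-- An element of prime power order is conjugate into any centraliser of index prime to that prime. -/
theorem exists_conj_mem_cz {r i : ℕ} (hr : r.Prime) {x u : G} (hx : orderOf x = r ^ i)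
    (hu : ¬ r ∣ sz u) : ∃ g : G, g * x * g⁻¹ ∈ cz u := by
  haveI := Fact.mk hr
  obtain ⟨P, hP⟩ := ItoRankThree.exists_sylow_le hu
  obtain ⟨g, hg⟩ := ItoRankThree.exists_conj_mem_sylow hx P
  exact ⟨g, hP hg⟩

/-- An element of prime power class size lies in the solvable radical. -/
theorem mem_solvRad_of_prime_pow {x : G} {p k : ℕ} (hp : p.Prime) (h : sz x = p ^ k) :
    x ∈ Layer.solvRad G := by
  have := S4037.result x hp k (by rw [Cfsg.Agent.S4034.carrier_ncard]; exact h)
  have hle : normalClosure ({x} : Set G) ≤ Layer.solvRad G :=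
    le_sSup (show _ ∈ {N : Subgroup G | N.Normal ∧ Group.IsSolvable N} from ⟨normalClosure_normal, this⟩)
  exact hle (subset_normalClosure rfl)

theorem not_dvd_card_map {Q : Type*} [Group Q] (f : G →* Q) (K : Subgroup G) {r : ℕ} (hr : r.Prime)
    (h : ∀ x ∈ K, (∃ i, orderOf x = r ^ i) → f x = 1) : ¬ r ∣ Nat.card (K.map f) := by
  haveI := Fact.mk hr
  let R : Sylow r K := default
  have hle : (R : Subgroup K) ≤ (f.subgroupMap K).ker := by
    intro x hx
    obtain ⟨i, hi⟩ := IsPGroup.iff_orderOf.1 R.2 ⟨x, hx⟩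
    rw [← orderOf_coe, ← orderOf_coe] at hi
    exact MonoidHom.mem_ker.2 (Subtype.ext (h x x.2 ⟨i, hi⟩))
  have hidx : (f.subgroupMap K).ker.index = Nat.card (K.map f) := by
    rw [index_ker, MonoidHom.range_eq_top.2 (f.subgroupMap_surjective K), card_top]
  exact fun hd => R.not_dvd_index ((hidx ▸ hd).trans (index_dvd_of_le hle))

theorem isSolvable_of_forall_dvd {p : ℕ} {Q : Type*} [Group Q] [Finite Q] [Fact p.Prime]
    (h : ∀ r : ℕ, r.Prime → r ≠ p → ¬ r ∣ Nat.card Q) : Group.IsSolvable Q := by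
  have hp : IsPGroup p Q := IsPGroup.iff_card.2 ⟨_, Nat.eq_prime_pow_of_unique_prime_dvd
    Nat.card_pos.ne' fun {d} hd hdd => by_contra fun hne => h d hd hne hdd⟩
  haveI := hp.isNilpotent
  infer_instance

/-! ### the solvable residual -/

/-- The last term of the derived series. -/
def res (G : Type*) [Group G] : Subgroup G := ⨅ n, derivedSeries G n

instance res_normal : (res G).Normal :=
  normal_iInf_normal fun n => derivedSeries_normal G n

theorem exists_res_eq : ∃ n, res G = derivedSeries G n := by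
  obtain ⟨_, ⟨n, rfl⟩, hn⟩ := (Set.toFinite (Set.range fun n => derivedSeries G n)).exists_minimal
    (Set.range_nonempty _)
  refine ⟨n, le_antisymm (iInf_le _ n) (le_iInf fun m => ?_)⟩
  refine (hn ⟨max n m, rfl⟩ (derivedSeries_antitone G (le_max_left n m))).trans ?_
  exact derivedSeries_antitone G (le_max_right n m)

theorem res_le {N : Subgroup G} [N.Normal] (h : Group.IsSolvable (G ⧸ N)) : res G ≤ N := by
  obtain ⟨n, hn⟩ := h.solvable
  refine (iInf_le _ n).trans ?_
  have e := map_derivedSeries_eq (QuotientGroup.mk'_surjective N) n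
  rw [hn, Subgroup.map_eq_bot_iff, QuotientGroup.ker_mk'] at e
  exact e

theorem Hyp.res_not_solvable (hH : Hyp G) : ¬ Group.IsSolvable (res G) := by
  intro h
  obtain ⟨n, hn⟩ := exists_res_eq (G := G)
  rw [hn] at h
  refine hH.ns ((Group.isSolvable_iff_subgroup_quotient (derivedSeries G n)).2 ⟨h, ⟨n, ?_⟩⟩)
  rw [← map_derivedSeries_eq (QuotientGroup.mk'_surjective (derivedSeries G n)) n, Subgroup.map_eq_bot_iff,
    QuotientGroup.ker_mk']

theorem not_dvd_res {r : ℕ} [Fact r.Prime] (h : Cfsg.HasNormalPComplement r G) :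
    ¬ r ∣ Nat.card (res G) := by
  obtain ⟨P, N, hN, hNP⟩ := h
  haveI := hN
  have hq : IsPGroup r (G ⧸ N) := by
    obtain ⟨k, hk⟩ := IsPGroup.iff_card.1 P.2
    refine IsPGroup.iff_card.2 ⟨k, ?_⟩
    rw [← hk, ← index_eq_card, hNP.symm.index_eq_card]
  haveI := hq.isNilpotent
  refine fun hd => P.not_dvd_index ?_
  rw [hNP.index_eq_card]
  exact hd.trans (card_dvd_of_le (res_le inferInstance))

theorem Hyp.two_dvd_res (hH : Hyp G) : 2 ∣ Nat.card (res G) := by
  by_contra h
  exact hH.res_not_solvable (S0205.result (Nat.odd_iff.2 (Nat.two_dvd_ne_zero.1 h)))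

/-! ### Hall intersections -/

theorem dvd_card_inf {L H : Subgroup G} [L.Normal] {d : ℕ} (hd : d ∣ Nat.card L)
    (hcop : d.Coprime H.index) : d ∣ Nat.card (L ⊓ H : Subgroup G) := by
  have h1 : Nat.card (L ⊓ H : Subgroup G) * H.relIndex L = Nat.card L := by
    rw [← inf_relIndex_left, ← relIndex_bot_left, ← relIndex_bot_left,
      relIndex_mul_relIndex _ _ _ bot_le inf_le_left]
  exact (hcop.coprime_dvd_right (relIndex_dvd_of_normal H L)).dvd_of_dvd_mul_right (h1 ▸ hd)

theorem le_of_coprime_index {L H : Subgroup G} [L.Normal] (hcop : (Nat.card L).Coprime H.index) :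
    L ≤ H :=
  inf_eq_left.1 (eq_of_le_of_card_ge inf_le_left
    (Nat.le_of_dvd Nat.card_pos (dvd_card_inf dvd_rfl hcop)))

/-! ### class sizes `1`, `k` inside a subgroup -/

theorem isNilpotent_of_index {K : Subgroup G} {a k : ℕ} (hK : K.index = a)
    (h : ∀ g ∈ K, K ≤ cz g ∨ (K ⊓ cz g).index = a * k) : Group.IsNilpotent K := by
  by_cases hall : ∀ (r : ℕ) (_ : Fact r.Prime) (R : Sylow r K), (R : Subgroup K) ≤ center K
  · have htop : center K = ⊤ := by
      rw [← index_eq_one]
      by_contra hne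
      obtain ⟨r, hr, hrd⟩ := Nat.exists_prime_and_dvd hne
      haveI := Fact.mk hr
      exact (default : Sylow r K).not_dvd_index (hrd.trans (index_dvd_of_le (hall r ⟨hr⟩ default)))
    exact ⟨1, by rw [Subgroup.upperCentralSeries_one, htop]⟩
  · push Not at hall
    obtain ⟨r, hr, R, hR⟩ := hall
    have := S4135.result r R hR ⊤ le_top k fun x _ => ?_
    · exact Group.isNilpotent_top.1 this
    rw [centralizer_subtype]
    rcases h x x.2 with hle | he
    · exact Or.inl (index_eq_one.2 (subgroupOf_eq_top.2 hle))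
    · refine Or.inr ?_
      have e := relIndex_mul_index (inf_le_left : K ⊓ cz (x : G) ≤ K)
      rw [inf_relIndex_left, he, hK, mul_comm a k] at e
      exact Nat.eq_of_mul_eq_mul_right
        (hK ▸ Nat.pos_of_ne_zero FiniteIndex.index_ne_zero) e

omit [Finite G] in
/-- The norms along the lines of a group of type `(r, r)`. -/
theorem pow_mem_of_norms {M : Type*} [CommGroup M] (P : Subgroup M) (S T : M →* M)
    (hST : ∀ x, S (T x) = T (S x)) {r : ℕ} (hr : r.Prime) (hS : ∀ x, S^[r] x = x)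
    (hPT : ∀ x ∈ P, T x ∈ P) {w : M}
    (hN : ∏ i ∈ Finset.range r, S^[i] w ∈ P)
    (hline : ∀ j < r, ∏ i ∈ Finset.range r, S^[i * j] (T^[i] w) ∈ P) : w ^ r ∈ P := by
  have hcomm : ∀ i j x, S^[i] (T^[j] x) = T^[j] (S^[i] x) := fun i j x =>
    Function.Commute.iterate_iterate (f := S) (g := T) hST i j x
  have hper : ∀ m x, S^[m] x = S^[m % r] x := by
    intro m x
    conv_lhs => rw [← Nat.mod_add_div m r, Function.iterate_add_apply]
    congr 1
    rw [Function.iterate_mul]
    exact Function.iterate_fixed (hS x) _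
  have hprod : ∀ (i : ℕ) (s : Finset ℕ) (f : ℕ → M), T^[i] (∏ j ∈ s, f j) = ∏ j ∈ s, T^[i] (f j) := by
    intro i
    induction i with
    | zero => exact fun _ _ => rfl
    | succ i ih =>
      intro s f
      simp only [Function.iterate_succ_apply', ih, map_prod]
  have hsum : ∀ i ∈ Finset.range r, i ≠ 0 →
      ∏ j ∈ Finset.range r, S^[i * j] (T^[i] w) ∈ P := by
    intro i hi hi0
    have hir : (r : ℕ).Coprime i := (hr.coprime_iff_not_dvd).2 fun hd =>
      absurd (Nat.le_of_dvd (Nat.pos_of_ne_zero hi0) hd) (not_le.2 (Finset.mem_range.1 hi))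
    have e : ∏ j ∈ Finset.range r, S^[i * j] (T^[i] w) = T^[i] (∏ j ∈ Finset.range r, S^[j] w) := by
      rw [hprod]
      simp only [← hcomm]
      refine Finset.prod_nbij (fun j => i * j % r) (fun j _ => Finset.mem_range.2 (Nat.mod_lt _ hr.pos))
        ?_ ?_ fun j _ => hper _ _
      · intro x hx y hy hxy
        simp only [Finset.coe_range, Set.mem_Iio] at hx hy
        exact (Nat.ModEq.cancel_left_of_coprime hir hxy).eq_of_lt_of_lt hx hy
      · intro y hy
        simp only [Finset.coe_range, Set.mem_Iio] at hy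
        obtain ⟨x, hx⟩ := Finset.surj_on_of_inj_on_of_card_le (s := Finset.range r)
          (t := Finset.range r) (fun j _ => i * j % r)
          (fun j _ => Finset.mem_range.2 (Nat.mod_lt _ hr.pos))
          (fun x y hx hy hxy => (Nat.ModEq.cancel_left_of_coprime hir hxy).eq_of_lt_of_lt
            (Finset.mem_range.1 hx) (Finset.mem_range.1 hy)) le_rfl y (Finset.mem_range.2 hy)
        exact ⟨x, by simpa using hx.1, hx.2.symm⟩
    rw [e]
    clear e hir hi hi0
    induction i with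
    | zero => exact hN
    | succ i ih => rw [Function.iterate_succ_apply']; exact hPT _ ih
  have h1 : ∏ j ∈ Finset.range r, ∏ i ∈ Finset.range r, S^[i * j] (T^[i] w) ∈ P :=
    prod_mem fun j hj => hline j (Finset.mem_range.1 hj)
  rw [Finset.prod_comm, ← Finset.mul_prod_erase _ _ (Finset.mem_range.2 hr.pos)] at h1
  have h2 : ∏ i ∈ (Finset.range r).erase 0, ∏ j ∈ Finset.range r, S^[i * j] (T^[i] w) ∈ P :=
    prod_mem fun i hi => hsum i (Finset.mem_of_mem_erase hi) (Finset.ne_of_mem_erase hi)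
  have h3 := (P.mul_mem_cancel_right h2).1 h1
  simpa using h3

theorem exists_split (r : ℕ) [hr : Fact r.Prime] (g : G) :
    ∃ g1 g2 : G, g1 ∈ zpowers g ∧ g2 ∈ zpowers g ∧ g = g1 * g2 ∧ Commute g1 g2 ∧
      (∃ i, orderOf g1 = r ^ i) ∧ ¬ r ∣ orderOf g2 := by
  obtain ⟨z, w, e, hz, hw, hc, ⟨k, hk⟩, n, hn, hwn⟩ := GroupSub.exists_parts r g
  obtain ⟨i, -, hi⟩ := (Nat.dvd_prime_pow hr.out).1 (orderOf_dvd_of_pow_eq_one hk)
  exact ⟨z, w, hz, hw, e, hc, ⟨i, hi⟩, fun hd => (hr.out.coprime_iff_not_dvd.1 hn)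
    (hd.trans (orderOf_dvd_of_pow_eq_one hwn))⟩

/-! ### conjugation on an invariant subgroup -/

/-- Conjugation by `e` on a subgroup it leaves invariant. -/
def conjHom (W : Subgroup G) (e : G) (h : ∀ w ∈ W, e * w * e⁻¹ ∈ W) : ↥W →* ↥W where
  toFun w := ⟨e * w * e⁻¹, h w w.2⟩
  map_one' := Subtype.ext (by simp)
  map_mul' a b := Subtype.ext (by simp [mul_assoc])

omit [Finite G] in
theorem conjHom_iterate (W : Subgroup G) (e : G) (h : ∀ w ∈ W, e * w * e⁻¹ ∈ W) (i : ℕ) (w : ↥W) :
    (((conjHom W e h)^[i] w : ↥W) : G) = e ^ i * w * (e ^ i)⁻¹ := by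
  induction i with
  | zero => simp
  | succ i ih =>
    rw [Function.iterate_succ_apply']
    show e * _ * e⁻¹ = _
    rw [ih, pow_succ']
    group

omit [Finite G] in
theorem prod_iterate_fixed {M : Type*} [CommGroup M] (F : M →* M) {r : ℕ} {w : M} (h : F^[r] w = w) :
    F (∏ i ∈ Finset.range r, F^[i] w) = ∏ i ∈ Finset.range r, F^[i] w := by
  rw [map_prod]
  simp only [← Function.iterate_succ_apply' F]
  have h1 := Finset.prod_range_succ (fun i => F^[i] w) r
  rw [Finset.prod_range_succ'] at h1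
  simpa [h] using h1

/-- Two commuting elements of order `r` acting fixed point freely on an abelian group of exponent
prime to `r` generate the same subgroup. -/
theorem mem_zpowers_of_fpf {p r : ℕ} (hp : p.Prime) (hr : r.Prime) (hpr : p ≠ r) (W : Subgroup G)
    [hWn : W.Normal] (hW : ∀ a ∈ W, ∀ b ∈ W, a * b = b * a) (hexp : ∀ d ∈ W, d ^ p = 1) (hne : W ≠ ⊥)
    {g z : G} (hg : g ^ r = 1) (hz : orderOf z = r) (hgz : Commute g z)
    (hfpf : ∀ e : G, e ≠ 1 → e ^ r = 1 → e ∈ cz z → ∀ w ∈ W, Commute e w → w = 1) :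
    g ∈ zpowers z := by
  by_contra hg'
  letI : CommGroup ↥W :=
    { (inferInstance : Group ↥W) with mul_comm := fun a b => Subtype.ext (hW a a.2 b b.2) }
  obtain ⟨w, hw, hw1⟩ := (bot_or_exists_ne_one W).resolve_left hne
  have hinv : ∀ e : G, ∀ v ∈ W, e * v * e⁻¹ ∈ W := fun e v hv => hWn.conj_mem v hv e
  have hzr : z ^ r = 1 := hz ▸ pow_orderOf_eq_one z
  have hfix : ∀ e : G, e ≠ 1 → e ^ r = 1 → e ∈ cz z → ∀ v : ↥W,
      ∏ i ∈ Finset.range r, (conjHom W e (hinv e))^[i] v = 1 := by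
    intro e he her hec v
    have h1 : conjHom W e (hinv e) (∏ i ∈ Finset.range r, (conjHom W e (hinv e))^[i] v) = _ :=
      prod_iterate_fixed _ (Subtype.ext (by rw [conjHom_iterate, her]; simp))
    exact Subtype.ext (hfpf e he her hec _ (SetLike.coe_mem _)
      (mul_inv_eq_iff_eq_mul.1 (congrArg Subtype.val h1)))
  have h := pow_mem_of_norms (⊥ : Subgroup ↥W) (conjHom W z (hinv z)) (conjHom W g (hinv g))
    (fun x => Subtype.ext (show z * (g * x * g⁻¹) * z⁻¹ = g * (z * x * z⁻¹) * g⁻¹ by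
      calc z * (g * x * g⁻¹) * z⁻¹ = (z * g) * x * (z * g)⁻¹ := by group
        _ = (g * z) * x * (g * z)⁻¹ := by rw [hgz.eq]
        _ = g * (z * x * z⁻¹) * g⁻¹ := by group))
    hr (fun x => Subtype.ext (by rw [conjHom_iterate, hzr]; simp))
    (fun x hx => by rw [mem_bot] at hx ⊢; rw [hx, map_one]) (w := ⟨w, hw⟩)
    (mem_bot.2 (hfix z (fun e => by
      rw [e, orderOf_one] at hz
      exact hr.ne_one hz.symm) hzr (mem_cz_self z) _))
    fun j _ => by
      refine mem_bot.2 ?_
      have e : ∀ i, (conjHom W z (hinv z))^[i * j] ((conjHom W g (hinv g))^[i] ⟨w, hw⟩) =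
          (conjHom W (z ^ j * g) (hinv _))^[i] ⟨w, hw⟩ := fun i => Subtype.ext (by
        rw [conjHom_iterate, conjHom_iterate, conjHom_iterate, (hgz.symm.pow_left j).mul_pow, ← pow_mul,
          mul_comm j i]
        group)
      simp only [e]
      refine hfix _ (fun h1 => hg' ?_) ?_ (mul_mem (pow_mem (mem_cz_self z) j) (mem_cz.2 hgz.eq)) _
      · rw [eq_inv_of_mul_eq_one_right h1]
        exact inv_mem (pow_mem (mem_zpowers z) j)
      · rw [(hgz.symm.pow_left j).mul_pow, ← pow_mul, mul_comm, pow_mul, hzr, one_pow, one_mul, hg]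
  refine hw1 (orderOf_eq_one_iff.1 (Nat.eq_one_of_dvd_coprimes ((Nat.coprime_primes hp hr).2 hpr)
    (orderOf_dvd_of_pow_eq_one (hexp w hw)) (orderOf_dvd_of_pow_eq_one ?_)))
  simpa using congrArg Subtype.val (mem_bot.1 h)

end Cfsg.Agent.ClassThree
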