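import Mathlib
import Cfsg.Agent.ClassThree.Tools
import Cfsg.Agent.ItoRankThree.Main

/-!
# Three class sizes `a ∣ b` and `c` prime to `a`
-/

set_option autoImplicit false
set_option linter.unusedSectionVars false
set_option linter.style.haveILetI false

namespace Cfsg.Agent.ClassThree

open Cfsg.Agent.CoprimeClass Subgroup
open Cfsg.Agent.ItoRankThree (sz_dvd_of_le eq_of_le_of_sz_eq mul_ne_one ne_one_of_orderOf exists_prime_order_le)

variable {G : Type*} [Group G]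

/-- The three sizes. -/
structure Data (G : Type*) [Group G] (a b c : ℕ) : Prop extends Hyp G where
  sizes : ∀ x : G, x ≠ 1 → sz x = a ∨ sz x = b ∨ sz x = c
  exa : ∃ x : G, x ≠ 1 ∧ sz x = a
  exb : ∃ x : G, x ≠ 1 ∧ sz x = b
  exc : ∃ x : G, x ≠ 1 ∧ sz x = c
  hab : a ∣ b
  hne : a ≠ b
  cop : a.Coprime c

namespace Data

variable [Finite G] {a b c : ℕ} (D : Data G a b c)
include D

theorem one_lt_a : 1 < a := by
  obtain ⟨x, hx, e⟩ := D.exa
  exact e ▸ D.toHyp.one_lt_sz hx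

theorem one_lt_c : 1 < c := by
  obtain ⟨x, hx, e⟩ := D.exc
  exact e ▸ D.toHyp.one_lt_sz hx

theorem one_lt_b : 1 < b := by
  obtain ⟨x, hx, e⟩ := D.exb
  exact e ▸ D.toHyp.one_lt_sz hx

theorem not_c_dvd_a : ¬ c ∣ a := fun h =>
  D.one_lt_c.ne' (Nat.eq_one_of_dvd_coprimes D.cop h dvd_rfl)

theorem not_a_dvd_c : ¬ a ∣ c := fun h =>
  D.one_lt_a.ne' (Nat.eq_one_of_dvd_coprimes D.cop dvd_rfl h)

theorem a_ne_c : a ≠ c := fun h => D.not_a_dvd_c (h ▸ dvd_rfl)

theorem not_b_dvd_a : ¬ b ∣ a := fun h => D.hne (Nat.dvd_antisymm D.hab h)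

theorem not_b_dvd_c : ¬ b ∣ c := fun h => D.not_a_dvd_c (D.hab.trans h)

theorem ne_one_of_sz {x : G} {n : ℕ} (hn : 1 < n) (h : sz x = n) : x ≠ 1 := by
  rintro rfl
  rw [ItoRankThree.sz_one] at h
  omega

theorem eq_a {x : G} (hx : x ≠ 1) (h : sz x ∣ a) : sz x = a := by
  rcases D.sizes x hx with e | e | e
  · exact e
  · exact absurd (e ▸ h) D.not_b_dvd_a
  · exact absurd (e ▸ h) D.not_c_dvd_a

theorem eq_c {x : G} (hx : x ≠ 1) (h : sz x ∣ c) : sz x = c := by
  rcases D.sizes x hx with e | e | e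
  · exact absurd (e ▸ h) D.not_a_dvd_c
  · exact absurd (e ▸ h) D.not_b_dvd_c
  · exact e

/-- A power of prime order with the same centraliser, for elements of size `a`. -/
theorem prime_power_a {x : G} (h : sz x = a) :
    ∃ (p : ℕ) (u : G), p.Prime ∧ orderOf u = p ∧ sz u = a ∧ cz u = cz x ∧ u ∈ zpowers x := by
  obtain ⟨p, u, hp, huo, hle, hu⟩ := exists_prime_order_le (D.ne_one_of_sz D.one_lt_a h)
  have he := D.eq_a (ne_one_of_orderOf hp huo) (h ▸ sz_dvd_of_le hle)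
  exact ⟨p, u, hp, huo, he, (eq_of_le_of_sz_eq hle (h.trans he.symm)).symm, hu⟩

/-- A power of prime order with the same centraliser, for elements of size `c`. -/
theorem prime_power_c {x : G} (h : sz x = c) :
    ∃ (p : ℕ) (v : G), p.Prime ∧ orderOf v = p ∧ sz v = c ∧ cz v = cz x ∧ v ∈ zpowers x := by
  obtain ⟨p, v, hp, hvo, hle, hv⟩ := exists_prime_order_le (D.ne_one_of_sz D.one_lt_c h)
  have he := D.eq_c (ne_one_of_orderOf hp hvo) (h ▸ sz_dvd_of_le hle)
  exact ⟨p, v, hp, hvo, he, (eq_of_le_of_sz_eq hle (h.trans he.symm)).symm, hv⟩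

theorem exists_prime_a : ∃ (p : ℕ) (u : G), p.Prime ∧ orderOf u = p ∧ sz u = a := by
  obtain ⟨x, -, h⟩ := D.exa
  obtain ⟨p, u, hp, huo, he, -⟩ := D.prime_power_a h
  exact ⟨p, u, hp, huo, he⟩

theorem exists_prime_c : ∃ (p : ℕ) (v : G), p.Prime ∧ orderOf v = p ∧ sz v = c := by
  obtain ⟨x, -, h⟩ := D.exc
  obtain ⟨p, v, hp, hvo, he, -⟩ := D.prime_power_c h
  exact ⟨p, v, hp, hvo, he⟩

/-- The size of a product of elements of sizes `a` and `c`, when `b` does not divide `a * c`. -/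
theorem sz_mul_eq (hb : ¬ b ∣ a * c) {x y : G} (hx : sz x = a) (hy : sz y = c) :
    sz (x * y) = max a c := by
  have hcop : (sz x).Coprime (sz y) := by rw [hx, hy]; exact D.cop
  have h1 := hy ▸ sz_le_sz_mul hcop
  have h2 : a ≤ sz (x * y) := by
    rw [← sz_conj y (x * y), show y * (x * y) * y⁻¹ = y * x by group, ← hx]
    exact sz_le_sz_mul hcop.symm
  have h3 := sz_mul_dvd hcop
  rw [hx, hy] at h3
  have := D.one_lt_a
  rcases D.sizes (x * y) (fun e => by rw [e, ItoRankThree.sz_one] at h2; omega) with e | e | e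
  · rw [e] at h1 ⊢; omega
  · exact absurd (e ▸ h3) hb
  · rw [e] at h2 ⊢; omega

end Data

end Cfsg.Agent.ClassThree
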