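import Mathlib
import Cfsg.Agent.ClassThree.Basic
import Cfsg.Agent.S4146

/-!
# The case `c ∣ b`
-/

set_option autoImplicit false
set_option linter.unusedSectionVars false
set_option linter.style.haveILetI false

namespace Cfsg.Agent.ClassThree

open Cfsg.Agent.CoprimeClass Subgroup
open Cfsg.Agent.ItoRankThree (sz_dvd_of_le eq_of_le_of_sz_eq mul_ne_one ne_one_of_orderOf)

variable {G : Type*} [Group G] [Finite G] {a b c : ℕ}

namespace Data

theorem b_ne_mul (D : Data G a b c) : b ≠ a * c := by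
  intro hb
  refine D.ns ?_
  have hr : Set.range (fun x : G => (centralizer ({x} : Set G)).index) = ({1, a, c, a * c} : Set ℕ) := by
    refine Set.ext fun n => ⟨?_, ?_⟩
    · rintro ⟨x, rfl⟩
      rcases eq_or_ne x 1 with rfl | hx
      · exact Or.inl ItoRankThree.sz_one
      · rcases D.sizes x hx with e | e | e
        · exact Or.inr (Or.inl e)
        · exact Or.inr (Or.inr (Or.inr (e.trans hb)))
        · exact Or.inr (Or.inr (Or.inl e))
    · rintro (rfl | rfl | rfl | rfl)
      · exact ⟨1, ItoRankThree.sz_one⟩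
      · obtain ⟨x, -, e⟩ := D.exa; exact ⟨x, e⟩
      · obtain ⟨x, -, e⟩ := D.exc; exact ⟨x, e⟩
      · obtain ⟨x, -, e⟩ := D.exb; exact ⟨x, e.trans hb⟩
  haveI := (S4146.result a c D.one_lt_a D.one_lt_c D.cop hr).1
  infer_instance

theorem not_both_aux (D : Data G a b c) (hcb : c ∣ b) (hac : a < c) : False := by
  have hacb : a * c ∣ b := D.cop.mul_dvd_of_dvd_of_dvd D.hab hcb
  have hbac : ¬ b ∣ a * c := fun h => D.b_ne_mul (Nat.dvd_antisymm h hacb)
  have hb0 : b ≠ 0 := by have := D.one_lt_b; omega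
  obtain ⟨q, v, hq, hvo, hv⟩ := D.exists_prime_c
  obtain ⟨p, u, hp, huo, hu⟩ := D.exists_prime_a
  -- elements of prime power order and size `a`
  have key : ∀ (x : G) (r i : ℕ), r.Prime → orderOf x = r ^ i → sz x = a →
      r ∣ c ∧ x ∈ Layer.solvRad G := by
    intro x r i hr hxo hx
    haveI := Fact.mk hr
    have hcop : (sz x).Coprime (sz v) := by rw [hx, hv]; exact D.cop
    obtain ⟨h1, h2, h3, h4, h5⟩ := comSub_facts hcop
      (by rw [D.sz_mul_eq hbac hx hv, hv, max_eq_right hac.le])
    rw [hv] at h1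
    rw [hx] at h2
    have hW : IsPGroup r (comSub x) := fun d => ⟨i, Subtype.ext (by
      simpa [hxo] using h5 d d.2)⟩
    obtain ⟨j, hj⟩ := IsPGroup.iff_card.1 hW
    have hj0 : j ≠ 0 := fun e => by
      rw [e, pow_zero] at hj
      have := D.one_lt_a
      omega
    refine ⟨(dvd_pow_self r hj0).trans (hj ▸ h1), ?_⟩
    haveI : (zpowers x ⊔ comSub x).Normal := by
      refine ⟨fun n hn g => ?_⟩
      have hle : zpowers x ⊔ comSub x ≤ (zpowers x ⊔ comSub x).comap (MulAut.conj g).toMonoidHom := by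
        refine sup_le (zpowers_le.2 ?_) fun d hd => ?_
        · show g * x * g⁻¹ ∈ zpowers x ⊔ comSub x
          rw [show g * x * g⁻¹ = x * (x⁻¹ * (g * x * g⁻¹)) by group]
          exact mul_mem (mem_sup_left (mem_zpowers x)) (mem_sup_right (mem_comSub x g))
        · exact mem_sup_right ((comSub_normal x).conj_mem d hd g)
      exact hle hn
    have hp : IsPGroup r ↥(zpowers x ⊔ comSub x) :=
      (IsPGroup.iff_card.2 ⟨i, by rw [Nat.card_zpowers, hxo]⟩ : IsPGroup r ↥(zpowers x)).to_sup_of_normal_right hW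
    haveI := hp.isNilpotent
    have hle : zpowers x ⊔ comSub x ≤ Layer.solvRad G :=
      le_sSup (show _ ∈ {N : Subgroup G | N.Normal ∧ Group.IsSolvable N} from ⟨inferInstance, inferInstance⟩)
    exact hle (mem_sup_left (mem_zpowers x))
  obtain ⟨hpc, -⟩ := key u p 1 hp (by rw [huo, pow_one]) hu
  have hpa : ¬ p ∣ a := fun h => hp.ne_one (Nat.eq_one_of_dvd_coprimes D.cop h hpc)
  -- commuting elements of coprime orders and sizes `a`, `c`
  have hnc : ∀ x y : G, sz x = a → sz y = c → Commute x y → (orderOf x).Coprime (orderOf y) → False := by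
    intro x y hx hy hxy hco
    have e := inf_index (u := x) (v := y) (by rw [hx, hy]; exact D.cop)
    rw [← cz_mul hxy hco, hx, hy] at e
    rcases D.sizes (x * y) (mul_ne_one (D.ne_one_of_sz D.one_lt_a hx) hco) with h | h | h
    · exact D.not_c_dvd_a ⟨a, h.symm.trans (e.trans (mul_comm a c))⟩
    · exact D.b_ne_mul (h.symm.trans e)
    · exact D.not_a_dvd_c ⟨c, h.symm.trans e⟩
  obtain ⟨q₀, hq₀, hq₀a⟩ := Nat.exists_prime_and_dvd D.one_lt_a.ne'
  haveI := Fact.mk hq₀
  have hq₀p : q₀ ≠ p := fun h => hpa (h ▸ hq₀a)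
  obtain ⟨a', ha'⟩ := D.exa
  obtain ⟨z, hzo, -, hzs⟩ := ItoRankThree.exists_sylow_center (p := q₀)
    (hq₀a.trans (ha'.2 ▸ ItoRankThree.sz_dvd_card a')) default
  have hz : sz z = c := by
    rcases D.sizes z (ne_one_of_orderOf hq₀ hzo) with h | h | h
    · exact absurd hq₀a (h ▸ hzs)
    · exact absurd (hq₀a.trans D.hab) (h ▸ hzs)
    · exact h
  set T := cz u ⊓ cz z with hT
  haveI := Fact.mk hp
  have hTp : ∀ s : ℕ, s.Prime → s ∣ Nat.card T → s = p := by
    intro s hs hsd
    by_contra hsp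
    obtain ⟨y, hy, hyo⟩ := exists_order hs hsd
    have hyu : Commute u y := (mem_cz.1 hy.1).symm
    have hco : (orderOf u).Coprime (orderOf y) := by
      rw [huo, hyo]; exact (Nat.coprime_primes hp hs).2 (Ne.symm hsp)
    rcases D.sizes y (ne_one_of_orderOf hs hyo) with h | h | h
    · rcases eq_or_ne s q₀ with rfl | hsq
      · exact hs.ne_one (Nat.eq_one_of_dvd_coprimes D.cop hq₀a (key y s 1 hs (by rw [hyo, pow_one]) h).1)
      · exact hnc y z h hz (mem_cz.1 hy.2) (by
          rw [hyo, hzo]; exact (Nat.coprime_primes hs hq₀).2 hsq)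
    · have e := cz_mul hyu hco
      have hne := mul_ne_one (D.ne_one_of_sz D.one_lt_a hu) hco
      have hd : b ∣ sz (u * y) := h ▸ sz_dvd_of_le (e ▸ inf_le_right)
      have huy : sz (u * y) = b := by
        rcases D.sizes _ hne with h' | h' | h'
        · exact absurd (h' ▸ hd) D.not_b_dvd_a
        · exact h'
        · exact absurd (h' ▸ hd) D.not_b_dvd_c
      have hle : cz y ≤ cz u := by
        rw [← eq_of_le_of_sz_eq (e ▸ inf_le_right) (huy.trans h.symm), e]
        exact inf_le_left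
      exact hnc u z hu hz (mem_cz.1 (hle (mem_cz_comm.1 hy.2))).symm (by
        rw [huo, hzo]; exact (Nat.coprime_primes hp hq₀).2 (Ne.symm hq₀p))
    · exact hnc u y hu h hyu hco
  have hTpow := Nat.eq_prime_pow_of_unique_prime_dvd (p := p) (Nat.card_pos (α := T)).ne'
    (fun {d} hd hdd => hTp d hd hdd)
  have hcard : Nat.card T * (a * c) = Nat.card G := by
    rw [← card_mul_index T, hT, inf_index (by rw [hu, hz]; exact D.cop), hu, hz]
  have hnb : ∀ (y : G) (r i : ℕ), r.Prime → r ≠ p → orderOf y = r ^ i → sz y ≠ b := by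
    intro y r i hr hrp hyo hy
    obtain ⟨t, ht⟩ := hacb
    have h1 := (cz y).card_mul_index
    rw [show (cz y).index = b from hy, ht, ← hcard, mul_comm (a * c) t, ← mul_assoc] at h1
    have h2 : Nat.card (cz y) * t = Nat.card T :=
      Nat.eq_of_mul_eq_mul_right (by have := D.one_lt_a; have := D.one_lt_c; positivity) h1
    have h3 : r ^ i ∣ p ^ (Nat.card T).primeFactorsList.length :=
      (hyo ▸ orderOf_dvd_card_of_mem (mem_cz_self y)).trans ((Dvd.intro t h2).trans hTpow.dvd)
    rcases Nat.eq_zero_or_pos i with rfl | hi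
    · rw [pow_zero, orderOf_eq_one_iff] at hyo
      exact D.ne_one_of_sz D.one_lt_b hy hyo
    · exact hrp ((Nat.prime_dvd_prime_iff_eq hr hp).1
        (hr.dvd_of_dvd_pow ((dvd_pow_self r hi.ne').trans h3)))
  set R := Layer.solvRad G with hR
  haveI : Group.IsSolvable R := Layer.solvRad_isSolvable
  refine D.ns ((Group.isSolvable_iff_subgroup_quotient R).2 ⟨inferInstance,
    isSolvable_of_forall_dvd (p := p) ?_⟩)
  have hker : ∀ r : ℕ, r.Prime → r ≠ p → ¬ r ∣ a → ¬ r ∣ Nat.card (G ⧸ R) := by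
    intro r hr hrp hra hrd
    refine not_dvd_card_map (QuotientGroup.mk' R) ⊤ hr (fun x _ ⟨i, hi⟩ => ?_) (by
      rwa [map_top_of_surjective _ (QuotientGroup.mk'_surjective R), card_top])
    refine (QuotientGroup.eq_one_iff x).2 ?_
    rcases eq_or_ne x 1 with rfl | hx
    · exact one_mem R
    rcases D.sizes x hx with h | h | h
    · exact (key x r i hr hi h).2
    · exact absurd h (hnb x r i hr hrp hi)
    · exfalso
      obtain ⟨g, hg⟩ := exists_conj_mem_cz hr hi (show ¬ r ∣ sz u by rwa [hu])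
      exact hnc u (g * x * g⁻¹) hu ((sz_conj g x).trans h) (mem_cz.1 hg).symm (by
        rw [orderOf_conj, hi, huo]
        exact Nat.Coprime.pow_right _ ((Nat.coprime_primes hp hr).2 (Ne.symm hrp)))
  intro r hr hrp hrd
  refine not_dvd_card_map (QuotientGroup.mk' R) ⊤ hr (fun x _ ⟨i, hi⟩ => ?_) (by
    rwa [map_top_of_surjective _ (QuotientGroup.mk'_surjective R), card_top])
  rcases eq_or_ne x 1 with rfl | hx
  · exact map_one _
  rcases D.sizes x hx with h | h | h
  · exact (QuotientGroup.eq_one_iff x).2 (key x r i hr hi h).2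
  · exact absurd h (hnb x r i hr hrp hi)
  have hd : sz (QuotientGroup.mk' R x) ∣ c := by
    refine dvd_trans ?_ (Eq.subst h (index_map_dvd (cz x) (QuotientGroup.mk'_surjective R)) (motive := fun n => ((cz x).map (QuotientGroup.mk' R)).index ∣ n))
    refine index_dvd_of_le ?_
    rintro _ ⟨g, hg, rfl⟩
    exact mem_cz.2 (by rw [← map_mul, ← map_mul, mem_cz.1 hg])
  have hpow := Nat.eq_prime_pow_of_unique_prime_dvd (p := p)
    (show sz (QuotientGroup.mk' R x) ≠ 0 from FiniteIndex.index_ne_zero) fun {d} hd' hdd => by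
      by_contra hdp
      by_cases hda : d ∣ a
      · exact hd'.ne_one (Nat.eq_one_of_dvd_coprimes D.cop hda (hdd.trans hd))
      · exact hker d hd' hdp hda (hdd.trans (index_dvd_card _))
  have hmem := mem_solvRad_of_prime_pow hp hpow
  have hle : (Layer.solvRad (G ⧸ R)).comap (QuotientGroup.mk' R) ≤ R := by
    refine le_sSup (show _ ∈ {N : Subgroup G | N.Normal ∧ Group.IsSolvable N} from ⟨inferInstance, ?_⟩)
    set K := (Layer.solvRad (G ⧸ R)).comap (QuotientGroup.mk' R)
    haveI : Group.IsSolvable (Layer.solvRad (G ⧸ R)) := Layer.solvRad_isSolvable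
    refine Group.isSolvable_of_ker_le_range
      (inclusion (show R ≤ K from fun r hr => by
        refine mem_comap.2 ?_
        rw [show QuotientGroup.mk' R r = 1 from (QuotientGroup.eq_one_iff r).2 hr]; exact one_mem _))
      ((QuotientGroup.mk' R).subgroupComap (Layer.solvRad (G ⧸ R))) fun k hk => ?_
    have hk' : QuotientGroup.mk' R (k : G) = 1 := congrArg Subtype.val (MonoidHom.mem_ker.1 hk)
    exact ⟨⟨k, (QuotientGroup.eq_one_iff (k : G)).1 hk'⟩, rfl⟩
  exact (QuotientGroup.eq_one_iff x).2 (hle hmem)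

theorem c_not_dvd_b (D : Data G a b c) : ¬ c ∣ b := by
  intro hcb
  rcases lt_or_gt_of_ne D.a_ne_c with h | h
  · exact D.not_both_aux hcb h
  · refine (show Data G c b a from ⟨D.toHyp, fun x hx => ?_, D.exc, D.exb, D.exa, hcb, ?_, D.cop.symm⟩).not_both_aux
      D.hab h
    · rcases D.sizes x hx with e | e | e
      · exact Or.inr (Or.inr e)
      · exact Or.inr (Or.inl e)
      · exact Or.inl e
    · exact fun e => D.not_a_dvd_c (e ▸ D.hab)

end Data

end Cfsg.Agent.ClassThree
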