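import Mathlib
import Cfsg.Agent.ClassThree.Both
import Cfsg.Agent.Fusion.FixedPointFree
import Cfsg.Agent.Core.NilpotentProduct
import Cfsg.Agent.TitsLemma.Small

/-!
# Elements of sizes `a` and `c` do not commute
-/

set_option autoImplicit false
set_option linter.unusedSectionVars false
set_option linter.style.haveILetI false

namespace Cfsg.Agent.ClassThree

open Cfsg.Agent.CoprimeClass Subgroup
open Cfsg.Agent.ItoRankThree (sz_dvd_of_le eq_of_le_of_sz_eq mul_ne_one ne_one_of_orderOf exists_prime_order_le)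

universe u

variable {G : Type u} [Group G] [Finite G] {a b c : ℕ}

/-- No element of prime order acts fixed point freely on the residual. -/
theorem Hyp.not_fpf (hH : Hyp G) {v : G} {q : ℕ} (hq : q.Prime) (hv : v ^ q = 1) :
    res G ⊓ cz v ≠ ⊥ := by
  intro h
  have hn : v ∈ normalizer (res G : Set G) := by rw [normalizer_eq_top]; exact mem_top v
  haveI := Fusion.isNilpotent_of_fpf_prime hq hv hn h
  exact hH.res_not_solvable inferInstance

theorem not_dvd_card_quot {N : Subgroup G} [N.Normal] {r : ℕ} (hr : r.Prime)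
    (h : ∀ x : G, (∃ i, orderOf x = r ^ i) → x ∈ N) : ¬ r ∣ Nat.card (G ⧸ N) := fun hd =>
  not_dvd_card_map (QuotientGroup.mk' N) ⊤ hr (fun x _ hx => (QuotientGroup.eq_one_iff x).2 (h x hx))
    (by rwa [map_top_of_surjective _ (QuotientGroup.mk'_surjective N), card_top])

theorem isSolvable_of_two {Q : Type u} [Group Q] [Finite Q] {p r : ℕ} (hp : p.Prime) (hr : r.Prime)
    (h : ∀ s : ℕ, s.Prime → s ∣ Nat.card Q → s = p ∨ s = r) : Group.IsSolvable Q := by
  have hn : Nat.card Q ≠ 0 := Nat.card_pos.ne'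
  rcases eq_or_ne p r with rfl | hpr
  · haveI := Fact.mk hp
    exact isSolvable_of_forall_dvd (p := p) fun s hs hsp hsd => hsp ((h s hs hsd).elim id id)
  · have hne : ordCompl[p] (Nat.card Q) ≠ 0 := (Nat.ordCompl_pos p hn).ne'
    have hc := Nat.eq_prime_pow_of_unique_prime_dvd (p := r) hne fun {d} hd hdd => by
      refine (h d hd (hdd.trans (Nat.ordCompl_dvd _ p))).resolve_left ?_
      rintro rfl
      exact Nat.not_dvd_ordCompl hd hn hdd
    exact TitsLemma.isSolvable_of_two_primes hp hr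
      ((Nat.ordProj_mul_ordCompl_eq_self (Nat.card Q) p).symm.trans (congrArg _ hc))

namespace Data

variable (D : Data G a b c)
include D

theorem a_or_b {w : G} (hw : w ≠ 1) (h : a ∣ sz w) : sz w = a ∨ sz w = b := by
  rcases D.sizes w hw with e | e | e
  · exact Or.inl e
  · exact Or.inr e
  · exact absurd (e ▸ h) D.not_a_dvd_c

theorem eq_b {w : G} (hw : w ≠ 1) (h : b ∣ sz w) : sz w = b := by
  rcases D.sizes w hw with e | e | e
  · exact absurd (e ▸ h) D.not_b_dvd_a
  · exact e
  · exact absurd (e ▸ h) D.not_b_dvd_c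

theorem eq_c' {w : G} (hw : w ≠ 1) (h : c ∣ sz w) : sz w = c := by
  rcases D.sizes w hw with e | e | e
  · exact absurd (e ▸ h) D.not_c_dvd_a
  · exact absurd (e ▸ h) D.c_not_dvd_b
  · exact e

/-- Commuting with an element of coprime order and size `b`. -/
theorem le_of_sz_b {x y : G} (hy : sz y = b) (hxy : Commute x y)
    (hco : (orderOf x).Coprime (orderOf y)) : cz y ≤ cz x := by
  have e := cz_mul hxy hco
  have hne : x * y ≠ 1 := by
    rcases eq_or_ne x 1 with rfl | hx
    · rw [one_mul]; exact D.ne_one_of_sz D.one_lt_b hy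
    · exact mul_ne_one hx hco
  have h := D.eq_b hne (hy ▸ sz_dvd_of_le (e ▸ inf_le_right))
  rw [← eq_of_le_of_sz_eq (e ▸ inf_le_right) (h.trans hy.symm), e]
  exact inf_le_left

theorem nc_coprime {x y : G} (hx : sz x = a) (hy : sz y = c) (hco : (orderOf x).Coprime (orderOf y)) :
    ¬ Commute x y := by
  intro hxy
  have e := inf_index (u := x) (v := y) (by rw [hx, hy]; exact D.cop)
  rw [← cz_mul hxy hco, hx, hy] at e
  rcases D.sizes (x * y) (mul_ne_one (D.ne_one_of_sz D.one_lt_a hx) hco) with h | h | h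
  · exact D.not_c_dvd_a ⟨a, h.symm.trans (e.trans (mul_comm a c))⟩
  · exact D.b_ne_mul (h.symm.trans e)
  · exact D.not_a_dvd_c ⟨c, h.symm.trans e⟩

/-- Class sizes inside a centraliser of index `a` with a unique subgroup of order `r`. -/
theorem nilpotent_centraliser {z : G} {r : ℕ} (hr : r.Prime) (hzo : orderOf z = r) (hz : sz z = a)
    (hun : ∀ g ∈ cz z, r ∣ orderOf g → z ∈ zpowers g) : Group.IsNilpotent (cz z) := by
  refine isNilpotent_of_index (k := b / a) hz fun g hg => ?_
  rw [Nat.mul_div_cancel' D.hab]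
  by_cases hg1 : g = 1
  · exact Or.inl fun x _ => by subst hg1; exact mem_cz.2 (by simp)
  have key : ∀ w : G, w ≠ 1 → cz w = cz z ⊓ cz g →
      cz z ≤ cz g ∨ (cz z ⊓ cz g).index = b := by
    intro w hw hwe
    rcases D.a_or_b hw (hz ▸ sz_dvd_of_le (hwe ▸ inf_le_left)) with e | e
    · refine Or.inl ?_
      rw [← eq_of_le_of_sz_eq (hwe ▸ inf_le_left) (e.trans hz.symm), hwe]
      exact inf_le_right
    · exact Or.inr (hwe ▸ e)
  by_cases hrg : r ∣ orderOf g
  · refine key g hg1 (inf_eq_right.2 ?_).symm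
    exact cz_le_of_mem_zpowers (hun g hg hrg)
  · have hco : (orderOf z).Coprime (orderOf g) := hzo ▸ (hr.coprime_iff_not_dvd).2 hrg
    exact key (z * g) (mul_ne_one (ne_one_of_orderOf hr hzo) hco) (cz_mul (mem_cz.1 hg).symm hco)

theorem no_commuting_same_prime {u v : G} {p : ℕ} (hp : p.Prime) (huo : orderOf u = p) (hvo : orderOf v = p)
    (hu : sz u = a) (hv : sz v = c) : ¬ Commute u v := by
  intro huv
  haveI := Fact.mk hp
  have hu1 := D.ne_one_of_sz D.one_lt_a hu
  have hv1 := D.ne_one_of_sz D.one_lt_c hv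
  -- the centraliser of `v` is a `p`-group
  obtain ⟨n, hn⟩ : ∃ n, Nat.card (cz v) = p ^ n := by
    refine ⟨_, Nat.eq_prime_pow_of_unique_prime_dvd Nat.card_pos.ne' fun {s} hs hsd => ?_⟩
    by_contra hsp
    obtain ⟨y, hy, hyo⟩ := exists_order hs hsd
    have hco : (orderOf y).Coprime (orderOf v) := by
      rw [hyo, hvo]; exact (Nat.coprime_primes hs hp).2 hsp
    have e := cz_mul (mem_cz.1 hy) hco
    have h := D.eq_c' (mul_ne_one (ne_one_of_orderOf hs hyo) hco) (hv ▸ sz_dvd_of_le (e ▸ inf_le_right))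
    have hle : cz v ≤ cz y := by
      rw [← eq_of_le_of_sz_eq (e ▸ inf_le_right) (h.trans hv.symm), e]
      exact inf_le_left
    have hyc := D.eq_c (ne_one_of_orderOf hs hyo) (hv ▸ sz_dvd_of_le hle)
    exact D.nc_coprime hu hyc (by rw [huo, hyo]; exact (Nat.coprime_primes hp hs).2 (Ne.symm hsp))
      (mem_cz.1 (hle (mem_cz.2 huv)))
  have hG : Nat.card G = p ^ n * c := by
    rw [← (cz v).card_mul_index, hn, show (cz v).index = c from hv]
  obtain ⟨i, -, hi⟩ := (Nat.dvd_prime_pow hp).1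
    (D.cop.dvd_of_dvd_mul_right (hG ▸ hu ▸ ItoRankThree.sz_dvd_card u))
  have hi0 : i ≠ 0 := fun e => by rw [e, pow_zero] at hi; exact D.one_lt_a.ne' hi
  have hpc : ¬ p ∣ c := fun h =>
    hp.ne_one (Nat.eq_one_of_dvd_coprimes D.cop (hi ▸ dvd_pow_self p hi0) h)
  have hcp : ∀ (x : G), sz x = c → ∀ s : ℕ, s.Prime → s ∣ Nat.card (cz x) → s = p := by
    intro x hx s hs hsd
    have h1 := (cz x).card_mul_index
    rw [show (cz x).index = c from hx, hG] at h1
    rw [Nat.eq_of_mul_eq_mul_right (by have := D.one_lt_c; omega) h1] at hsd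
    exact (Nat.prime_dvd_prime_iff_eq hs hp).1 (hs.dvd_of_dvd_pow hsd)
  obtain ⟨k, hk⟩ := D.hab
  have hpk : p ∣ k := by
    by_contra hpk
    have hmax : ∀ y : G, ¬ p ^ (i + 1) ∣ sz y := by
      intro y hd
      rcases eq_or_ne y 1 with rfl | hy
      · rw [ItoRankThree.sz_one, Nat.dvd_one, Nat.pow_eq_one] at hd
        exact hd.elim hp.ne_one (Nat.succ_ne_zero i)
      rcases D.sizes y hy with e | e | e
      · rw [e, hi] at hd
        have := (Nat.pow_dvd_pow_iff_le_right hp.one_lt).1 hd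
        omega
      · rw [e, hk, hi, pow_succ] at hd
        exact hpk (Nat.dvd_of_mul_dvd_mul_left (pow_pos hp.pos i) hd)
      · exact hpc ((dvd_pow_self p (Nat.succ_ne_zero i)).trans (e ▸ hd))
    have hL := not_dvd_res (S4127.result p i hmax ⟨u, ⟨1, by rw [huo, pow_one]⟩, hu.trans hi⟩)
    refine D.toHyp.not_fpf hp (hvo ▸ pow_orderOf_eq_one v) (card_eq_one.1 ?_)
    refine Nat.eq_one_of_dvd_coprimes (Nat.Coprime.pow_left n ((hp.coprime_iff_not_dvd).2 hL))
      (hn ▸ card_dvd_of_le inf_le_right) (card_dvd_of_le inf_le_left)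
  have hbac : ¬ b ∣ a * c := fun h => hpc (by
    rw [hk] at h
    exact hpk.trans (Nat.dvd_of_mul_dvd_mul_left (by have := D.one_lt_a; omega) h))
  have hmax : max a c = a := by
    rcases max_choice a c with h | h
    · exact h
    exfalso
    obtain ⟨h1, h2, -, -, h5⟩ := comSub_facts (u := u) (v := v) (by rw [hu, hv]; exact D.cop)
      (by rw [D.sz_mul_eq hbac hu hv, h, hv])
    have hW : IsPGroup p (comSub u) := fun d => ⟨1, Subtype.ext (by simpa [huo] using h5 d d.2)⟩
    obtain ⟨j, hj⟩ := IsPGroup.iff_card.1 hW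
    have hj0 : j ≠ 0 := fun e => by rw [e, pow_zero] at hj; have := D.one_lt_a; omega
    rw [hv, hj] at h1
    exact hpc ((dvd_pow_self p hj0).trans h1)
  have hmul : ∀ x : G, sz x = a → sz (v * x) = sz x := fun x hx => by
    rw [← sz_conj x (v * x), show x * (v * x) * x⁻¹ = x * v by group, D.sz_mul_eq hbac hx hv, hmax, hx]
  obtain ⟨h1, h2, h3, h4, h5⟩ := comSub_facts (u := v) (v := u) (by rw [hu, hv]; exact D.cop.symm) (hmul u hu)
  set W := comSub v with hW
  have hexp : ∀ d ∈ W, d ^ p = 1 := fun d hd => hvo ▸ h5 d hd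
  have hne : W ≠ ⊥ := fun e => by
    rw [hv, e, card_bot] at h2
    have := D.one_lt_c
    omega
  have hWo : ∀ d ∈ W, d ≠ 1 → orderOf d = p := fun d hd hd1 => orderOf_eq_prime (hexp d hd) hd1
  have hfixa : ∀ h : G, ¬ p ∣ orderOf h → sz h = a → ∀ d ∈ W, Commute d h → d = 1 := by
    intro h hph hha d hd hc'
    by_contra hd1
    have hcop : (sz v).Coprime (sz h) := by rw [hv, hha]; exact D.cop.symm
    obtain ⟨g, hg⟩ := translate hcop (hmul h hha) hd (show h ∈ cls h from ⟨1, by simp⟩)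
    have ho := orderOf_conj g h
    simp only at hg
    rw [hg, hc'.orderOf_mul_eq_mul_orderOf_of_coprime
      (by rw [hWo d hd hd1]; exact hp.coprime_iff_not_dvd.2 hph), hWo d hd hd1] at ho
    exact hp.ne_one ((mul_eq_right₀ (orderOf_pos h).ne').1 ho)
  -- `p'`-elements of prime power order have size `a` or `b`
  have hab' : ∀ (x : G) (s j : ℕ), s.Prime → s ≠ p → orderOf x = s ^ j → x ≠ 1 → sz x = a ∨ sz x = b := by
    intro x s j hs hsp hxo hx
    rcases D.sizes x hx with e | e | e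
    · exact Or.inl e
    · exact Or.inr e
    · exfalso
      rcases Nat.eq_zero_or_pos j with rfl | hj
      · exact hx (orderOf_eq_one_iff.1 (by rw [hxo, pow_zero]))
      · exact hsp (hcp x e s hs ((dvd_pow_self s hj.ne').trans (hxo ▸ orderOf_dvd_card_of_mem (mem_cz_self x))))
  have hradA : ∀ x : G, sz x = a → x ∈ Layer.solvRad G := fun x hx =>
    mem_solvRad_of_prime_pow hp (hx.trans hi)
  haveI : Group.IsSolvable (Layer.solvRad G) := Layer.solvRad_isSolvable
  obtain ⟨r, hr, hrp, hrk⟩ : ∃ r : ℕ, r.Prime ∧ r ≠ p ∧ r ∣ k := by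
    by_contra hno
    push Not at hno
    refine D.ns ((Group.isSolvable_iff_subgroup_quotient (Layer.solvRad G)).2 ⟨inferInstance,
      isSolvable_of_forall_dvd (p := p) fun s hs hsp => not_dvd_card_quot hs fun x ⟨j, hj⟩ => ?_⟩)
    rcases eq_or_ne x 1 with rfl | hx
    · exact one_mem _
    rcases hab' x s j hs hsp hj hx with e | e
    · exact hradA x e
    · have hk0 : k ≠ 0 := fun h => by rw [h, mul_zero] at hk; have := D.one_lt_b; omega
      refine mem_solvRad_of_prime_pow (k := i + k.primeFactorsList.length) hp (e.trans ?_)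
      rw [hk, hi, pow_add, ← Nat.eq_prime_pow_of_unique_prime_dvd hk0 fun {d} hd hdk => by
        by_contra hne'
        exact hno d hd hne' hdk]
  haveI := Fact.mk hr
  obtain ⟨z, hz, hrz⟩ : ∃ z : G, orderOf z = r ∧ ¬ r ∣ sz z := by
    obtain ⟨x, -, hx⟩ := D.exb
    obtain ⟨z, hz, -, h⟩ := ItoRankThree.exists_sylow_center (p := r)
      ((hrk.trans (Dvd.intro_left a hk.symm)).trans (hx ▸ ItoRankThree.sz_dvd_card x)) default
    exact ⟨z, hz, h⟩
  have hz1 := ne_one_of_orderOf hr hz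
  have hza : sz z = a := (hab' z r 1 hr hrp (by rw [hz, pow_one]) hz1).resolve_right fun e =>
    hrz (e ▸ hk ▸ dvd_mul_of_dvd_right hrk a)
  have hra : ¬ r ∣ a := hza ▸ hrz
  have hzp : ¬ p ∣ orderOf z := fun h => hrp ((Nat.prime_dvd_prime_iff_eq hp hr).1 (hz ▸ h)).symm
  have hfixb : ∀ (h : G) (s j : ℕ), s.Prime → s ≠ p → s ≠ r → orderOf h = s ^ j → sz h = b →
      ∀ d ∈ W, Commute d h → d = 1 := by
    intro h s j hs hsp hsr hho hhb d hd hc'
    obtain ⟨g, hg⟩ := exists_conj_mem_cz hs hho (show ¬ s ∣ sz z by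
      rw [hza, hi]; exact fun e => hsp ((Nat.prime_dvd_prime_iff_eq hs hp).1 (hs.dvd_of_dvd_pow e)))
    have hle := D.le_of_sz_b ((sz_conj g h).trans hhb) (mem_cz.1 hg).symm (by
      rw [hz, orderOf_conj, hho]; exact Nat.Coprime.pow_right _ ((Nat.coprime_primes hr hs).2 hsr.symm))
    have hd' : g * d * g⁻¹ ∈ cz z := hle (conj_mem_cz_iff.2 (mem_cz.2 hc'))
    exact conj_eq_one_iff.1 (hfixa z hzp hza _ ((comSub_normal v).conj_mem d hd g) (mem_cz.1 hd'))
  have hWc : ∀ d ∈ W, d ≠ 1 → sz d = c := by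
    intro d hd hd1
    rcases D.sizes d hd1 with e | e | e
    · exfalso
      obtain ⟨g, hg⟩ := exists_conj_mem_cz hr (show orderOf z = r ^ 1 by rw [hz, pow_one])
        (show ¬ r ∣ sz d by rwa [e])
      refine hd1 ?_
      have h6 := hfixa z hzp hza _ ((comSub_normal v).conj_mem d hd g⁻¹)
        (by rw [inv_inv]; exact mem_cz.1 (mem_cz_conj.1 (mem_cz_comm.1 hg)))
      exact conj_eq_one_iff.1 h6
    · exfalso
      refine D.ns ((Group.isSolvable_iff_subgroup_quotient (Layer.solvRad G)).2 ⟨inferInstance,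
        isSolvable_of_two hp hr fun s hs hsd => ?_⟩)
      by_contra hne'
      push Not at hne'
      refine not_dvd_card_quot hs (fun x ⟨j, hj⟩ => ?_) hsd
      rcases eq_or_ne x 1 with rfl | hx
      · exact one_mem _
      rcases hab' x s j hs hne'.1 hj hx with e' | e'
      · exact hradA x e'
      exfalso
      have hcard : Nat.card (cz x) = Nat.card (cz d) :=
        Nat.eq_of_mul_eq_mul_right (show 0 < b by have := D.one_lt_b; omega) (by
          conv_lhs => rw [← e', card_mul_index]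
          conv_rhs => rw [← e, card_mul_index])
      have hj0 : j ≠ 0 := fun h => hx (orderOf_eq_one_iff.1 (by rw [hj, h, pow_zero]))
      obtain ⟨f, hf, hfo⟩ := exists_order (K := cz d) hs
        (hcard ▸ (dvd_pow_self s hj0).trans (hj ▸ orderOf_dvd_card_of_mem (mem_cz_self x)))
      have hdf : Commute d f := (mem_cz.1 hf).symm
      rcases hab' f s 1 hs hne'.1 (by rw [hfo, pow_one]) (ne_one_of_orderOf hs hfo) with e'' | e''
      · exact hd1 (hfixa f (fun h => hne'.1 ((Nat.prime_dvd_prime_iff_eq hp hs).1 (hfo ▸ h)).symm) e'' d hd hdf)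
      · exact hd1 (hfixb f s 1 hs hne'.1 hne'.2 (by rw [hfo, pow_one]) e'' d hd hdf)
    · exact e
  have hfpf : ∀ e : G, e ≠ 1 → e ^ r = 1 → ∀ w ∈ W, Commute e w → w = 1 := by
    intro e he her w hw hew
    by_contra hw1
    refine hrp (hcp w (hWc w hw hw1) r hr ?_)
    rw [← orderOf_eq_prime her he]
    exact orderOf_dvd_card_of_mem (mem_cz.2 hew)
  haveI : Group.IsNilpotent (cz z) := D.nilpotent_centraliser hr hz hza fun g hg hrg => by
    obtain ⟨g', hg', hgo⟩ := exists_order (K := zpowers g) hr (by rwa [Nat.card_zpowers])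
    have hzg' : Commute z g' := (mem_cz.1 (zpowers_le.2 hg hg')).symm
    exact zpowers_le.2 hg' (mem_zpowers_of_fpf hp hr (Ne.symm hrp) W h4 hexp hne
      (hz ▸ pow_orderOf_eq_one z) hgo hzg' fun e he her _ => hfpf e he her)
  haveI : Group.IsNilpotent (cz v) := (IsPGroup.iff_card.2 ⟨n, hn⟩ : IsPGroup p (cz v)).isNilpotent
  exact D.ns (Core.kegel_wielandt ‹Group.IsNilpotent (cz z)› ‹_›
    (exists_mem_cz (by rw [hza, hv]; exact D.cop)))

/-- Elements of sizes `a` and `c` never commute. -/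
theorem never_commute {x y : G} (hx : sz x = a) (hy : sz y = c) : ¬ Commute x y := by
  intro hxy
  obtain ⟨p, u, hp, huo, hu, hcu, -⟩ := D.prime_power_a hx
  obtain ⟨q, v, hq, hvo, hv, -, hvy⟩ := D.prime_power_c hy
  have h1 : y ∈ cz u := hcu ▸ mem_cz.2 hxy.eq.symm
  have huv : Commute u v := (mem_cz.1 (zpowers_le.2 h1 hvy)).symm
  rcases eq_or_ne p q with rfl | hpq
  · exact D.no_commuting_same_prime hp huo hvo hu hv huv
  · exact D.nc_coprime hu hv (by rw [huo, hvo]; exact (Nat.coprime_primes hp hq).2 hpq) huv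

end Data

end Cfsg.Agent.ClassThree
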