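import Mathlib
import Cfsg.Agent.ClassThree.Tools
import Cfsg.Agent.ItoRankThree.Main
import Cfsg.Agent.HSub.Basic
import Cfsg.Agent.RealGraph.Basic
import Cfsg.Agent.Classical.SmallSimple
import Cfsg.Agent.S2202
import Cfsg.Agent.S4355

/-!
# Centreless non-solvable groups with abelian centralisers of involutions
-/

set_option autoImplicit false
set_option linter.unusedSectionVars false
set_option linter.style.haveILetI false

namespace Cfsg.Agent.ClassThree

open Cfsg.Agent.CoprimeClass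
open Cfsg.Agent.ItoRankThree (sz_dvd_of_le eq_of_le_of_sz_eq mul_ne_one ne_one_of_orderOf exists_sylow_center
  exists_conj_mem_sylow abelian_of_odd_central)

variable {G : Type*} [Group G] [Finite G]

/-- The target. -/
def Target (G : Type*) [Group G] : Prop :=
  ∃ a : ℕ, 0 < a ∧ Nonempty (G ≃* Matrix.ProjectiveSpecialLinearGroup (Fin 2) (GaloisField 2 a))

theorem of_abelian (hH : Hyp G)
    (h : ∀ t : G, orderOf t = 2 → IsMulCommutative ↥(cz t)) : Target G := by
  haveI : Fact (Nat.Prime 2) := ⟨Nat.prime_two⟩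
  rcases S2202.result hH.even_card h with hc | hn | ⟨F, iF, iFi, A, iA, iAf, hF, hA, ⟨e⟩⟩
  · exfalso
    have hn := HSub.hasNormalPComplement_of_cyclic (default : Sylow 2 G) (fun q hq _ => hq.two_le) (hc default)
    exact not_dvd_res hn hH.two_dvd_res
  · exact absurd (RealGraph.isSolvable_of_normal_sylow default (hn _)) hH.ns
  · classical
    haveI : Subsingleton A := ⟨fun a b => by
      have h1 : ∀ c : A, c = 1 := fun c => by
        have h2 : e.symm (1, c) = 1 := hH.eq_one_of_central fun g => e.injective (by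
          rw [map_mul, map_mul, e.apply_symm_apply]
          exact Prod.ext (by simp) (mul_comm _ _))
        simpa using congrArg e h2
      rw [h1 a, h1 b]⟩
    let e' : G ≃* Matrix.SpecialLinearGroup (Fin 2) F :=
      MulEquiv.ofBijective ((MonoidHom.fst _ A).comp e.toMonoidHom) ⟨fun a b hab =>
        e.injective (Prod.ext hab (Subsingleton.elim _ _)), fun s => ⟨e.symm (s, 1), by simp⟩⟩
    have h2 : (2 : F) = 0 := CharTwo.two_eq_zero
    have hZ : Subgroup.center (Matrix.SpecialLinearGroup (Fin 2) F) = ⊥ :=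
      Subgroup.card_eq_one.1 (_root_.Cfsg.Agent.Classical.Exc.card_center_sl2_two h2)
    let q : Matrix.SpecialLinearGroup (Fin 2) F ≃* Matrix.ProjectiveSpecialLinearGroup (Fin 2) F :=
      MulEquiv.ofBijective (QuotientGroup.mk' _) ⟨by
        rw [← MonoidHom.ker_eq_bot_iff, QuotientGroup.ker_mk', hZ], QuotientGroup.mk'_surjective _⟩
    obtain ⟨f, -, hf⟩ := FiniteField.card F 2
    haveI : Fintype (GaloisField 2 f) := Fintype.ofFinite _
    have hc : Fintype.card F = Fintype.card (GaloisField 2 f) := by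
      rw [hf, ← Nat.card_eq_fintype_card, GaloisField.card 2 f f.ne_zero]
    obtain ⟨φ⟩ := Classical.Small.psl_congr (n := 2)
      (FiniteField.ringEquivOfCardEq (K := F) (K' := GaloisField 2 f) hc)
    exact ⟨f, f.pos, ⟨(e'.trans q).trans φ⟩⟩

theorem of_odd_sizes (hH : Hyp G)
    (hodd : ∀ x : G, (∃ k : ℕ, orderOf x = 2 ^ k) → ¬ 2 ∣ sz x)
    (hmax : ∀ t : G, orderOf t = 2 → ∀ w : G, w ≠ 1 → sz t ∣ sz w → sz w = sz t) : Target G := by
  refine of_abelian hH fun t ht =>
    abelian_of_odd_central _ (fun v hv hv2 => ?_) (fun P => S4355.result hodd P)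
  have hcop : (orderOf t).Coprime (orderOf v) := ht ▸ Nat.coprime_two_left.2 hv2
  have e := cz_mul (mem_cz.1 hv).symm hcop
  have hle : cz (t * v) ≤ cz t := e ▸ inf_le_left
  have := hmax t ht _ (mul_ne_one (ne_one_of_orderOf Nat.prime_two ht) hcop) (sz_dvd_of_le hle)
  rw [← eq_of_le_of_sz_eq hle this, e]
  exact inf_le_right

theorem of_flat (hH : Hyp G)
    (hflat : ∀ a b : G, a ≠ 1 → b ≠ 1 → sz a ∣ sz b → sz a = sz b) : Target G := by
  haveI : Fact (Nat.Prime 2) := ⟨Nat.prime_two⟩
  refine of_odd_sizes hH (fun x ⟨k, hk⟩ => ?_) fun t ht w hw h =>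
    (hflat t w (ne_one_of_orderOf Nat.prime_two ht) hw h).symm
  rcases eq_or_ne x 1 with rfl | hx
  · rw [ItoRankThree.sz_one]
    decide
  let S : Sylow 2 G := default
  obtain ⟨g, hg⟩ := exists_conj_mem_sylow hk S
  obtain ⟨t, ht, hSt, hodd⟩ := exists_sylow_center (even_iff_two_dvd.1 hH.even_card) S
  rw [← sz_conj g x]
  set v := g * x * g⁻¹ with hv
  have hv1 : v ≠ 1 := fun e => hx (conj_eq_one_iff.1 e)
  have hv2 : orderOf v = 2 ^ k := by rw [← hk, hv, orderOf_injective (MulAut.conj g).toMonoidHom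
    (MulAut.conj g).injective x |>.symm]; rfl
  have ht1 := ne_one_of_orderOf Nat.prime_two ht
  suffices sz v = sz t by rw [this]; exact hodd
  by_cases hw : ∃ r : ℕ, r.Prime ∧ r ≠ 2 ∧ r ∣ Nat.card (cz v)
  · obtain ⟨r, hr, hr2, hrd⟩ := hw
    haveI : Fact r.Prime := ⟨hr⟩
    obtain ⟨w, hwo⟩ := exists_prime_orderOf_dvd_card' (G := cz v) r hrd
    have hwo' : orderOf (w : G) = r := by rw [Subgroup.orderOf_coe, hwo]
    have hw1 := ne_one_of_orderOf hr hwo'
    have hcop : (orderOf v).Coprime (orderOf (w : G)) := by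
      rw [hv2, hwo']
      exact Nat.Coprime.pow_left _ ((Nat.coprime_primes Nat.prime_two hr).2 (Ne.symm hr2))
    have e := cz_mul (mem_cz.1 w.2).symm hcop
    have hne := mul_ne_one hv1 hcop
    have h1 : cz (v * (w : G)) ≤ cz v := e ▸ inf_le_left
    have h2 : cz (v * (w : G)) ≤ cz (w : G) := e ▸ inf_le_right
    have e1 := hflat v _ hv1 hne (sz_dvd_of_le h1)
    have e2 := hflat (w : G) _ hw1 hne (sz_dvd_of_le h2)
    have hvw : cz v = cz (w : G) :=
      (eq_of_le_of_sz_eq h1 e1.symm).symm.trans (eq_of_le_of_sz_eq h2 e2.symm)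
    have htw : t ∈ cz (w : G) := hvw ▸ mem_cz.2 (mem_cz.1 (hSt hg)).symm
    have hcop' : (orderOf t).Coprime (orderOf (w : G)) := by
      rw [ht, hwo']
      exact (Nat.coprime_primes Nat.prime_two hr).2 (Ne.symm hr2)
    have e' := cz_mul (show Commute t (w : G) from mem_cz.1 htw) hcop'
    have hne' := mul_ne_one ht1 hcop'
    have e3 := hflat t _ ht1 hne' (sz_dvd_of_le (e' ▸ inf_le_left : cz (t * (w : G)) ≤ cz t))
    have e4 := hflat (w : G) _ hw1 hne' (sz_dvd_of_le (e' ▸ inf_le_right : cz (t * (w : G)) ≤ cz (w : G)))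
    rw [e1, ← e2, e4, ← e3]
  · push Not at hw
    have hp : ∀ d : ℕ, d.Prime → d ∣ Nat.card (cz v) → d = 2 := fun d hd hdd => by
      by_contra h
      exact hw d hd h hdd
    have hcard := Nat.eq_prime_pow_of_unique_prime_dvd Nat.card_pos.ne' (fun {d} hd hdd => hp d hd hdd)
    have hdvd : Nat.card (cz v) ∣ Nat.card (cz t) := by
      rw [hcard]
      refine dvd_trans ?_ (Subgroup.card_dvd_of_le hSt)
      exact S.pow_dvd_card_of_pow_dvd_card (hcard ▸ Subgroup.card_subgroup_dvd_card _)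
    obtain ⟨c, hc⟩ := hdvd
    refine (hflat t v ht1 hv1 ⟨c, ?_⟩).symm
    have h1 := (cz v).card_mul_index
    have h2 := (cz t).card_mul_index
    rw [hc, mul_assoc] at h2
    rw [← h2] at h1
    rw [mul_comm (sz t) c]
    exact Nat.eq_of_mul_eq_mul_left Nat.card_pos h1

end Cfsg.Agent.ClassThree
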