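import Mathlib
import Cfsg.Agent.ClassThree.Commute
import Cfsg.Agent.ClassThree.Recognition
import Cfsg.Agent.S4160

/-!
# Consequences: the order of the group and the two kinds of elements
-/

set_option autoImplicit false
set_option linter.unusedSectionVars false
set_option linter.style.haveILetI false

namespace Cfsg.Agent.ClassThree

open Cfsg.Agent.CoprimeClass Subgroup
open Cfsg.Agent.ItoRankThree (sz_dvd_of_le eq_of_le_of_sz_eq mul_ne_one ne_one_of_orderOf exists_prime_order_le)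

universe u

variable {G : Type u} [Group G] [Finite G] {a b c : ℕ}

namespace Data

variable (D : Data G a b c)
include D

theorem card_group : Nat.card G = a * c := by
  obtain ⟨p, u, hp, huo, hu⟩ := D.exists_prime_a
  obtain ⟨q, v, hq, hvo, hv⟩ := D.exists_prime_c
  have hpq : p ≠ q := by
    rintro rfl
    by_cases hpa : p ∣ a
    · obtain ⟨g, hg⟩ := exists_conj_mem_cz hp (show orderOf u = p ^ 1 by rw [huo, pow_one])
        (show ¬ p ∣ sz v by
          rw [hv]; exact fun h => hp.ne_one (Nat.eq_one_of_dvd_coprimes D.cop hpa h))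
      exact D.never_commute ((sz_conj g u).trans hu) hv (mem_cz.1 hg)
    · obtain ⟨g, hg⟩ := exists_conj_mem_cz hp (show orderOf v = p ^ 1 by rw [hvo, pow_one])
        (show ¬ p ∣ sz u by rwa [hu])
      exact D.never_commute hu ((sz_conj g v).trans hv) (mem_cz.1 hg).symm
  have hbot : cz u ⊓ cz v = ⊥ := by
    rw [← card_eq_one]
    by_contra hne
    obtain ⟨s, hs, hsd⟩ := Nat.exists_prime_and_dvd hne
    obtain ⟨y, hy, hyo⟩ := exists_order hs hsd
    rcases D.sizes y (ne_one_of_orderOf hs hyo) with h | h | h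
    · exact D.never_commute h hv (mem_cz.1 hy.2)
    · rcases eq_or_ne s q with rfl | hsq
      · exact D.never_commute hu hv (mem_cz.1 (D.le_of_sz_b h (mem_cz.1 hy.1).symm (by
          rw [huo, hyo]; exact (Nat.coprime_primes hp hs).2 hpq) (mem_cz_comm.1 hy.2))).symm
      · exact D.never_commute hu hv (mem_cz.1 (D.le_of_sz_b h (mem_cz.1 hy.2).symm (by
          rw [hvo, hyo]; exact (Nat.coprime_primes hq hs).2 (Ne.symm hsq)) (mem_cz_comm.1 hy.1)))
    · exact D.never_commute hu h (mem_cz.1 hy.1).symm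
  rw [← index_bot, ← hbot, inf_index (by rw [hu, hv]; exact D.cop), hu, hv]

theorem card_cz_a {x : G} (h : sz x = a) : Nat.card (cz x) = c := by
  have h1 := (cz x).card_mul_index
  rw [show (cz x).index = a from h, D.card_group, mul_comm a c] at h1
  exact Nat.eq_of_mul_eq_mul_right (by have := D.one_lt_a; omega) h1

theorem card_cz_c {x : G} (h : sz x = c) : Nat.card (cz x) = a := by
  have h1 := (cz x).card_mul_index
  rw [show (cz x).index = c from h, D.card_group] at h1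
  exact Nat.eq_of_mul_eq_mul_right (by have := D.one_lt_c; omega) h1

theorem exists_k : ∃ k : ℕ, b = a * k ∧ 1 < k ∧ k ∣ c ∧ k ≠ c := by
  obtain ⟨k, hk⟩ := D.hab
  refine ⟨k, hk, ?_, ?_, ?_⟩
  · rcases k with _ | _ | k
    · rw [mul_zero] at hk; have := D.one_lt_b; omega
    · exact absurd (by simpa using hk.symm) D.hne
    · omega
  · obtain ⟨x, -, hx⟩ := D.exb
    have := hx ▸ ItoRankThree.sz_dvd_card x
    rw [D.card_group, hk] at this
    exact Nat.dvd_of_mul_dvd_mul_left (by have := D.one_lt_a; omega) this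
  · rintro rfl
    exact D.b_ne_mul hk

theorem orderOf_dvd_a {x : G} (h : sz x = c) : orderOf x ∣ a :=
  D.card_cz_c h ▸ orderOf_dvd_card_of_mem (mem_cz_self x)

theorem orderOf_dvd_c {x : G} (h : sz x = a ∨ sz x = b) : orderOf x ∣ c := by
  rcases h with h | h
  · exact D.card_cz_a h ▸ orderOf_dvd_card_of_mem (mem_cz_self x)
  · obtain ⟨t, ht⟩ := D.hab
    have h1 := (cz x).card_mul_index
    rw [show (cz x).index = b from h, D.card_group, ht, mul_left_comm] at h1
    exact (orderOf_dvd_card_of_mem (mem_cz_self x)).trans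
      ⟨t, (Nat.eq_of_mul_eq_mul_left (by have := D.one_lt_a; omega) h1).symm⟩

theorem sz_eq_c {x : G} (hx : x ≠ 1) (h : orderOf x ∣ a) : sz x = c := by
  by_contra hne
  refine hx (orderOf_eq_one_iff.1 (Nat.eq_one_of_dvd_coprimes D.cop h (D.orderOf_dvd_c ?_)))
  rcases D.sizes x hx with e | e | e
  exacts [Or.inl e, Or.inr e, absurd e hne]

theorem sz_a_or_b {x : G} (hx : x ≠ 1) (h : orderOf x ∣ c) : sz x = a ∨ sz x = b := by
  rcases D.sizes x hx with e | e | e
  exacts [Or.inl e, Or.inr e,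
    absurd (orderOf_eq_one_iff.1 (Nat.eq_one_of_dvd_coprimes D.cop (D.orderOf_dvd_a e) h)) hx]

theorem inf_eq_bot {x v : G} (hx : Nat.card (cz x) ∣ c) (hv : sz v = c) : cz x ⊓ cz v = ⊥ :=
  card_eq_one.1 (Nat.eq_one_of_dvd_coprimes D.cop (D.card_cz_c hv ▸ card_dvd_of_le inf_le_right)
    ((card_dvd_of_le inf_le_left).trans hx))

theorem cz_eq_of_c {x y : G} (hx : sz x = c) (hy : sz y = c) (hxy : Commute x y)
    (hco : (orderOf x).Coprime (orderOf y)) : cz x = cz y := by
  have e := cz_mul hxy hco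
  have h := D.eq_c' (mul_ne_one (D.ne_one_of_sz D.one_lt_c hx) hco) (hx ▸ sz_dvd_of_le (e ▸ inf_le_left))
  exact (eq_of_le_of_sz_eq (e ▸ inf_le_left) (h.trans hx.symm)).symm.trans
    (eq_of_le_of_sz_eq (e ▸ inf_le_right) (h.trans hy.symm))

/-- The centraliser of an element of order `q` and size `c` is abelian or a `q`-group. -/
theorem abelian_or_pgroup {v : G} {q : ℕ} (hq : q.Prime) (hvo : orderOf v = q) (hv : sz v = c) :
    ((∀ x ∈ cz v, ∀ y ∈ cz v, x * y = y * x) ∧ ∀ h ∈ cz v, h ≠ 1 → cz h = cz v) ∨ IsPGroup q (cz v) := by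
  haveI := Fact.mk hq
  have hsc : ∀ w ∈ cz v, w ≠ 1 → sz w = c := fun w hw hw1 =>
    D.sz_eq_c hw1 (D.card_cz_c hv ▸ orderOf_dvd_card_of_mem hw)
  by_cases hall : ∀ s : ℕ, s.Prime → s ∣ Nat.card (cz v) → s = q
  · exact Or.inr (IsPGroup.iff_card.2 ⟨_, Nat.eq_prime_pow_of_unique_prime_dvd Nat.card_pos.ne'
      (fun {d} hd hdd => hall d hd hdd)⟩)
  push Not at hall
  obtain ⟨s, hs, hsd, hsq⟩ := hall
  obtain ⟨w, hw, hwo⟩ := exists_order hs hsd
  have hwv : cz v = cz w := D.cz_eq_of_c hv (hsc w hw (ne_one_of_orderOf hs hwo)) (mem_cz.1 hw).symm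
    (by rw [hvo, hwo]; exact (Nat.coprime_primes hq hs).2 hsq.symm)
  have hpp : ∀ d ∈ cz v, ∀ r i : ℕ, r.Prime → orderOf d = r ^ i → d ≠ 1 → cz d = cz v := by
    intro d hd r i hr hdo hd1
    rcases eq_or_ne r q with rfl | hrq
    · exact (D.cz_eq_of_c (hsc d hd hd1) (hsc w hw (ne_one_of_orderOf hs hwo))
        (mem_cz.1 (show d ∈ cz w from hwv ▸ hd)) (by
          rw [hdo, hwo]; exact Nat.Coprime.pow_left _ ((Nat.coprime_primes hr hs).2 hsq.symm))).trans hwv.symm
    · exact D.cz_eq_of_c (hsc d hd hd1) hv (mem_cz.1 hd) (by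
        rw [hdo, hvo]; exact Nat.Coprime.pow_left _ ((Nat.coprime_primes hr hq).2 hrq))
  have hcomm : ∀ x ∈ cz v, ∀ y ∈ cz v, x * y = y * x := by
    intro x hx y hy
    have : y ∈ centralizer (cz v : Set G) := mem_of_parts _ y fun d hd r i hr hdo => by
      rw [mem_centralizer_iff]
      intro z hz
      rcases eq_or_ne d 1 with rfl | hd1
      · simp
      · exact mem_cz.1 ((hpp d (zpowers_le.2 hy hd) r i hr hdo hd1).symm ▸ hz)
    exact mem_centralizer_iff.1 this x hx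
  exact Or.inl ⟨hcomm, fun h hh h1 => (eq_of_le_of_sz_eq (fun z hz => mem_cz.2 (hcomm z hz h hh))
    (hv.trans (hsc h hh h1).symm)).symm⟩

theorem nilpotent_cz_c {y : G} (hy : sz y = c) : Group.IsNilpotent (cz y) := by
  obtain ⟨q, v, hq, hvo, hv, hcv, -⟩ := D.prime_power_c hy
  rw [← hcv]
  haveI := Fact.mk hq
  rcases D.abelian_or_pgroup hq hvo hv with ⟨h, -⟩ | h
  · letI : CommGroup ↥(cz v) :=
      { (inferInstance : Group ↥(cz v)) with mul_comm := fun a b => Subtype.ext (h a a.2 b b.2) }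
    infer_instance
  · exact h.isNilpotent

theorem target_of_even_a (ha : 2 ∣ a) : Target G := by
  have hc : ¬ 2 ∣ c := fun h => absurd (Nat.eq_one_of_dvd_coprimes D.cop ha h) (by decide)
  refine of_odd_sizes D.toHyp (fun x ⟨i, hi⟩ hd => ?_) fun t ht w hw h => ?_
  · rcases eq_or_ne x 1 with rfl | hx
    · rw [ItoRankThree.sz_one] at hd
      exact absurd hd (by decide)
    by_cases hxc : sz x = c
    · exact hc (hxc ▸ hd)
    have hi0 : i ≠ 0 := fun h => hx (orderOf_eq_one_iff.1 (by rw [hi, h, pow_zero]))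
    refine hc ((dvd_pow_self 2 hi0).trans (hi ▸ D.orderOf_dvd_c ?_))
    rcases D.sizes x hx with e | e | e
    exacts [Or.inl e, Or.inr e, absurd e hxc]
  · have htc := D.sz_eq_c (ne_one_of_orderOf Nat.prime_two ht) (ht ▸ ha)
    exact (D.eq_c' hw (htc ▸ h)).trans htc.symm

/-- A prime divisor of `c` not dividing `k` does not divide the residual. -/
theorem not_dvd_res_of_not_dvd_k {k q : ℕ} (hk : b = a * k) (hq : q.Prime) (hqc : q ∣ c) (hqk : ¬ q ∣ k) :
    ¬ q ∣ Nat.card (res G) := by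
  intro hqL
  haveI := Fact.mk hq
  obtain ⟨p', u, hp', huo, hu⟩ := D.exists_prime_a
  obtain ⟨q', v, hq', hvo, hv⟩ := D.exists_prime_c
  refine D.toHyp.not_fpf hq' (hvo ▸ pow_orderOf_eq_one v) (card_eq_one.1 ?_)
  by_contra hne
  obtain ⟨p, hp, hpd⟩ := Nat.exists_prime_and_dvd hne
  have hpa : p ∣ a := D.card_cz_c hv ▸ hpd.trans (card_dvd_of_le inf_le_right)
  have hpc : ¬ p ∣ c := fun h => hp.ne_one (Nat.eq_one_of_dvd_coprimes D.cop hpa h)
  have hqa : ¬ q ∣ a := fun h => hq.ne_one (Nat.eq_one_of_dvd_coprimes D.cop h hqc)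
  haveI := Fact.mk hp
  have hpq : p ≠ q := fun e => hqa (e ▸ hpa)
  rcases S4160.result (G := G) p q hp hq hpq ⟨u, show p ∣ sz u from hu.symm ▸ hpa⟩
    ⟨v, show q ∣ sz v from hv.symm ▸ hqc⟩ (fun x (hd : p * q ∣ sz x) => by
      rcases eq_or_ne x 1 with rfl | hx
      · rw [ItoRankThree.sz_one] at hd
        exact hp.ne_one (Nat.eq_one_of_mul_eq_one_right (Nat.dvd_one.1 hd))
      rcases D.sizes x hx with e | e | e <;> rw [e] at hd
      · exact hqa ((dvd_mul_left q p).trans hd)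
      · exact (hq.dvd_mul.1 (hk ▸ (dvd_mul_left q p).trans hd)).elim hqa hqk
      · exact hpc ((dvd_mul_right p q).trans hd)) with h | h
  · exact not_dvd_res h (hpd.trans (card_dvd_of_le inf_le_left))
  · exact not_dvd_res h hqL

theorem two_dvd_c (ha : ¬ 2 ∣ a) : 2 ∣ c :=
  (Nat.prime_two.dvd_mul.1 (D.card_group ▸ D.toHyp.even_card.two_dvd)).resolve_left ha

theorem two_dvd_k (ha : ¬ 2 ∣ a) {k : ℕ} (hk : b = a * k) : 2 ∣ k := by
  by_contra h
  exact D.not_dvd_res_of_not_dvd_k hk Nat.prime_two (D.two_dvd_c ha) h D.toHyp.two_dvd_res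

theorem exists_odd_prime (ha : ¬ 2 ∣ a) {k : ℕ} (hk : b = a * k) :
    ∃ r : ℕ, r.Prime ∧ r ≠ 2 ∧ r ∣ k := by
  by_contra hno
  push Not at hno
  obtain ⟨q, v, hq, hvo, hv⟩ := D.exists_prime_c
  haveI : Fact (Nat.Prime 2) := ⟨Nat.prime_two⟩
  let S : Sylow 2 G := default
  set L := res G
  obtain ⟨j, hj⟩ : ∃ j, (Nat.card L).gcd c = 2 ^ j := by
    refine ⟨_, Nat.eq_prime_pow_of_unique_prime_dvd (Nat.gcd_pos_of_pos_left c Nat.card_pos).ne'
      fun {d} hd hdd => ?_⟩
    by_contra hd2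
    exact D.not_dvd_res_of_not_dvd_k hk hd (hdd.trans (Nat.gcd_dvd_right _ _)) (hno d hd hd2)
      (hdd.trans (Nat.gcd_dvd_left _ _))
  have hdA : (Nat.card L).gcd a ∣ Nat.card (L ⊓ cz v : Subgroup G) :=
    dvd_card_inf (Nat.gcd_dvd_left _ _) (by
      rw [show (cz v).index = c from hv]; exact D.cop.coprime_dvd_left (Nat.gcd_dvd_right _ _))
  have hdB : (Nat.card L).gcd c ∣ Nat.card (L ⊓ (S : Subgroup G) : Subgroup G) :=
    dvd_card_inf (Nat.gcd_dvd_left _ _) (by
      rw [hj]; exact Nat.Coprime.pow_left _ (Nat.prime_two.coprime_iff_not_dvd.2 S.not_dvd_index))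
  set A := (cz v).subgroupOf L
  set B := (S : Subgroup G).subgroupOf L
  have hA : Nat.card A = Nat.card (L ⊓ cz v : Subgroup G) := by
    rw [inf_comm, ← Nat.card_congr (subgroupOfEquivOfLe (inf_le_right : cz v ⊓ L ≤ L)).toEquiv,
      inf_subgroupOf_right]
  have hB : Nat.card B = Nat.card (L ⊓ (S : Subgroup G) : Subgroup G) := by
    rw [inf_comm, ← Nat.card_congr (subgroupOfEquivOfLe (inf_le_right : (S : Subgroup G) ⊓ L ≤ L)).toEquiv,
      inf_subgroupOf_right]
  have hAB : (Nat.card A).Coprime (Nat.card B) := by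
    obtain ⟨i, hi⟩ := IsPGroup.iff_card.1 S.2
    refine ((Nat.Coprime.pow_right i (Nat.prime_two.coprime_iff_not_dvd.2 ha).symm).coprime_dvd_left
      (D.card_cz_c hv ▸ hA ▸ card_dvd_of_le inf_le_right)).coprime_dvd_right
      (hi ▸ hB ▸ card_dvd_of_le inf_le_right)
  have hmul : Nat.card A * Nat.card B = Nat.card L := by
    refine Nat.dvd_antisymm (hAB.mul_dvd_of_dvd_of_dvd (card_subgroup_dvd_card A) (card_subgroup_dvd_card B)) ?_
    refine dvd_trans (dvd_of_eq ?_) (Nat.mul_dvd_mul (hA ▸ hdA) (hB ▸ hdB))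
    rw [← D.cop.gcd_mul, Nat.gcd_eq_left]
    exact D.card_group ▸ card_subgroup_dvd_card L
  have hcompl := isComplement'_of_coprime hmul hAB
  have hA' : Group.IsNilpotent A :=
    (Group.isNilpotent_congr (inf_subgroupOf_right (cz v) L ▸
      subgroupOfEquivOfLe (inf_le_right : cz v ⊓ L ≤ L))).2
      (Core.isNilpotent_mono (D.nilpotent_cz_c hv) inf_le_left)
  have hB' : Group.IsNilpotent B := (S.2.comap_subtype (K := L)).isNilpotent
  exact D.toHyp.res_not_solvable (Core.kegel_wielandt hA' hB' fun g => by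
    obtain ⟨⟨x, y⟩, hxy⟩ := hcompl.2 g
    exact ⟨x, x.2, y, y.2, hxy.symm⟩)

theorem exists_involution (ha : ¬ 2 ∣ a) {k : ℕ} (hk : b = a * k) : ∃ t : G, orderOf t = 2 ∧ sz t = a := by
  haveI : Fact (Nat.Prime 2) := ⟨Nat.prime_two⟩
  obtain ⟨t, ht, -, hts⟩ := ItoRankThree.exists_sylow_center
    (even_iff_two_dvd.1 D.toHyp.even_card) (default : Sylow 2 G)
  exact ⟨t, ht, (D.sz_a_or_b (ne_one_of_orderOf Nat.prime_two ht) (ht ▸ D.two_dvd_c ha)).resolve_right
    fun e => hts (e ▸ hk ▸ dvd_mul_of_dvd_right (D.two_dvd_k ha hk) a)⟩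

theorem not_nilpotent_cz {t : G} (ht : sz t = a) : ¬ Group.IsNilpotent (cz t) := by
  intro h
  obtain ⟨q, v, -, -, hv⟩ := D.exists_prime_c
  exact D.ns (Core.kegel_wielandt h (D.nilpotent_cz_c hv) (exists_mem_cz (by rw [ht, hv]; exact D.cop)))

/-- Centralisers of index `a` are self-normalising. -/
theorem normalizer_cz {t : G} (ht : sz t = a) : normalizer (cz t : Set G) = cz t := by
  refine le_antisymm ?_ le_normalizer
  rw [← relIndex_eq_one]
  by_contra hne
  obtain ⟨p, hp, hpd⟩ := Nat.exists_prime_and_dvd hne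
  have hpa : p ∣ a := ht ▸ hpd.trans ((Dvd.intro _ (relIndex_mul_index le_normalizer)))
  obtain ⟨h, hh, hho⟩ := exists_order hp (hpd.trans (relIndex_dvd_card _ _))
  have hhc := D.sz_eq_c (ne_one_of_orderOf hp hho) (hho ▸ hpa)
  exact D.not_nilpotent_cz ht (Fusion.isNilpotent_of_fpf_prime hp (hho ▸ pow_orderOf_eq_one h) hh
    (D.inf_eq_bot (dvd_of_eq (D.card_cz_a ht)) hhc))

theorem mem_of_conj_cz_eq {t g : G} (ht : sz t = a) (h : cz (g * t * g⁻¹) = cz t) : g ∈ cz t := by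
  rw [← D.normalizer_cz ht, mem_normalizer_iff]
  intro x
  conv_rhs => rw [← h]
  exact conj_mem_cz_iff.symm

/-- A prime divisor of `k` has a central element in the centraliser of an involution of size `a`. -/
theorem exists_centre {k : ℕ} (hk : b = a * k) (hkc : k ∣ c) {t : G} (ht : orderOf t = 2)
    (hta : sz t = a) {r : ℕ} (hr : r.Prime) (hrk : r ∣ k) :
    ∃ z : G, orderOf z = r ∧ cz z = cz t := by
  rcases eq_or_ne r 2 with rfl | hr2
  · exact ⟨t, ht, rfl⟩
  haveI := Fact.mk hr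
  have hra : ¬ r ∣ a := fun h => hr.ne_one (Nat.eq_one_of_dvd_coprimes D.cop h (hrk.trans hkc))
  obtain ⟨P, hP⟩ := ItoRankThree.exists_sylow_le (p := r) (C := cz t) (show ¬ r ∣ sz t by rwa [hta])
  obtain ⟨z, hz, hPz, -⟩ := ItoRankThree.exists_sylow_center
    (D.card_group ▸ dvd_mul_of_dvd_right (hrk.trans hkc) a) P
  have hzP := ItoRankThree.mem_sylow_of_le_cz (a := 1) (by rw [hz, pow_one]) hPz
  have hco : (orderOf t).Coprime (orderOf z) := by
    rw [ht, hz]; exact (Nat.coprime_primes Nat.prime_two hr).2 (Ne.symm hr2)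
  have e := cz_mul (mem_cz.1 (hP hzP)).symm hco
  have hsz : sz (t * z) = a := (D.a_or_b (mul_ne_one (ne_one_of_orderOf Nat.prime_two ht) hco)
    (hta ▸ sz_dvd_of_le (e ▸ inf_le_left))).resolve_right fun h => P.not_dvd_index
      ((hk ▸ dvd_mul_of_dvd_right hrk a : r ∣ b).trans (h ▸ index_dvd_of_le (e ▸ le_inf hP hPz)))
  have hle : cz t ≤ cz z := by
    rw [← eq_of_le_of_sz_eq (e ▸ inf_le_left) (hsz.trans hta.symm), e]
    exact inf_le_right
  exact ⟨z, hz, (eq_of_le_of_sz_eq hle (hta.trans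
    (D.eq_a (ne_one_of_orderOf hr hz) (hta ▸ sz_dvd_of_le hle)).symm)).symm⟩

end Data

end Cfsg.Agent.ClassThree
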