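import Mathlib
import Cfsg.Agent.ClassThree.Coprime
import Cfsg.Agent.Core.FrobeniusGroup

/-!
# Centralisers of index `a`: three central primes, and the malnormal case
-/

set_option autoImplicit false
set_option linter.unusedSectionVars false
set_option linter.style.haveILetI false

namespace Cfsg.Agent.ClassThree

open Cfsg.Agent.CoprimeClass Subgroup
open Cfsg.Agent.ItoRankThree (sz_dvd_of_le eq_of_le_of_sz_eq mul_ne_one ne_one_of_orderOf)

universe u

variable {G : Type u} [Group G] [Finite G] {a b c : ℕ}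

theorem isSolvable_quotient_res : Group.IsSolvable (G ⧸ res G) := by
  obtain ⟨n, hn⟩ := exists_res_eq (G := G)
  refine ⟨n, ?_⟩
  rw [← map_derivedSeries_eq (QuotientGroup.mk'_surjective (res G)) n, Subgroup.map_eq_bot_iff,
    QuotientGroup.ker_mk', ← hn]

namespace Data

variable (D : Data G a b c)
include D

theorem inf_index_cases {t z g : G} (hta : sz t = a) (hz : cz z = cz t) (hz1 : z ≠ 1) (hg : g ∈ cz t)
    (hco : (orderOf z).Coprime (orderOf g)) : cz t ≤ cz g ∨ (cz t ⊓ cz g).index = b := by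
  have e := cz_mul (mem_cz.1 (show g ∈ cz z from hz.symm ▸ hg)).symm hco
  rw [hz] at e
  rcases D.a_or_b (mul_ne_one hz1 hco) (hta ▸ sz_dvd_of_le (e ▸ inf_le_left)) with h | h
  · refine Or.inl ?_
    rw [← eq_of_le_of_sz_eq (e ▸ inf_le_left) (h.trans hta.symm), e]
    exact inf_le_right
  · exact Or.inr (e ▸ h)

/-- A centraliser of index `a` has no central elements of three different prime orders. -/
theorem not_three_centres {t : G} (hta : sz t = a) {p₀ p₁ p₂ : ℕ} (h₀ : p₀.Prime) (h₁ : p₁.Prime)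
    (h₂ : p₂.Prime) (h01 : p₀ ≠ p₁) (h02 : p₀ ≠ p₂) (h12 : p₁ ≠ p₂)
    {z₀ z₁ z₂ : G} (o₀ : orderOf z₀ = p₀) (o₁ : orderOf z₁ = p₁) (o₂ : orderOf z₂ = p₂)
    (e₀ : cz z₀ = cz t) (e₁ : cz z₁ = cz t) (e₂ : cz z₂ = cz t) : False := by
  haveI := Fact.mk h₀
  haveI := Fact.mk h₁
  have miss : ∀ (p : ℕ) (z : G), p.Prime → orderOf z = p → cz z = cz t → ∀ g ∈ cz t, ¬ p ∣ orderOf g →
      cz t ≤ cz g ∨ (cz t ⊓ cz g).index = b := fun p z hp hzo hz g hg hd =>
    D.inf_index_cases hta hz (ne_one_of_orderOf hp hzo) hg (hzo ▸ hp.coprime_iff_not_dvd.2 hd)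
  obtain ⟨k, hk⟩ := D.hab
  refine D.not_nilpotent_cz hta (isNilpotent_of_index (k := k) hta fun g hg => ?_)
  rw [← hk]
  obtain ⟨g₁, g₂, hg₁, hg₂, hgm, hcm, ⟨i, hi⟩, hd₂⟩ := exists_split p₀ g
  obtain ⟨h, h', hh, hh', hhm, hhc, ⟨j, hj⟩, hd'⟩ := exists_split p₁ g₂
  have hle₁ : zpowers g ≤ cz t := zpowers_le.2 hg
  have hle₂ : zpowers g₂ ≤ cz t := zpowers_le.2 (hle₁ hg₂)
  have hhh : orderOf h ∣ orderOf g₂ := by
    rw [← Nat.card_zpowers h, ← Nat.card_zpowers g₂]; exact card_dvd_of_le (zpowers_le.2 hh)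
  have hhh' : orderOf h' ∣ orderOf g₂ := by
    rw [← Nat.card_zpowers h', ← Nat.card_zpowers g₂]; exact card_dvd_of_le (zpowers_le.2 hh')
  have hco₁ : (orderOf g₁).Coprime (orderOf g₂) := by
    rw [hi]; exact Nat.Coprime.pow_left _ (h₀.coprime_iff_not_dvd.2 hd₂)
  have hczg : cz g = cz g₁ ⊓ cz g₂ := by rw [hgm]; exact cz_mul hcm hco₁
  by_cases hc₁ : cz t ≤ cz g₁
  · have e : cz t ⊓ cz g = cz t ⊓ cz g₂ := by rw [hczg, ← inf_assoc, inf_eq_left.2 hc₁]
    rw [e]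
    rcases miss p₀ z₀ h₀ o₀ e₀ g₂ (hle₁ hg₂) hd₂ with h | h
    · exact Or.inl fun x hx => by rw [hczg]; exact ⟨hc₁ hx, h hx⟩
    · exact Or.inr h
  have hX : (cz t ⊓ cz g₁).index = b :=
    (miss p₁ z₁ h₁ o₁ e₁ g₁ (hle₁ hg₁) fun hd => h01
      ((Nat.prime_dvd_prime_iff_eq h₁ h₀).1 (h₁.dvd_of_dvd_pow (hi ▸ hd))).symm).resolve_left hc₁
  have key : ∀ (w : G), w ∈ zpowers g₂ → (orderOf g₁).Coprime (orderOf w) → ∀ (p : ℕ) (z : G), p.Prime →
      orderOf z = p → cz z = cz t → p ≠ p₀ → ¬ p ∣ orderOf w → cz t ⊓ cz g₁ ≤ cz w := by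
    intro w hw hco p z hp hzo hz hpp hpw
    have hwg : Commute g₁ w := by
      obtain ⟨n, rfl⟩ := mem_zpowers_iff.1 hw
      exact hcm.zpow_right n
    have e := cz_mul hwg hco
    rcases miss p z hp hzo hz (g₁ * w) (mul_mem (hle₁ hg₁) (hle₂ hw)) (fun hd => (hp.dvd_mul.1
      (hd.trans hwg.orderOf_mul_dvd_mul_orderOf)).elim (fun h => hpp
        ((Nat.prime_dvd_prime_iff_eq hp h₀).1 (hp.dvd_of_dvd_pow (hi ▸ h)))) hpw) with h | h
    · exact absurd (h.trans (e.le.trans inf_le_left)) hc₁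
    · have hle : cz t ⊓ cz (g₁ * w) ≤ cz t ⊓ cz g₁ := inf_le_inf_left _ (e.le.trans inf_le_left)
      rw [← eq_of_le_of_sz_le hle (h.le.trans hX.ge)]
      exact inf_le_right.trans (e.le.trans inf_le_right)
  have k1 : cz t ⊓ cz g₁ ≤ cz h := key h hh (hco₁.coprime_dvd_right hhh) p₂ z₂ h₂ o₂ e₂ h02.symm
    fun hd => h12 ((Nat.prime_dvd_prime_iff_eq h₂ h₁).1 (h₂.dvd_of_dvd_pow (hj ▸ hd))).symm
  have k2 : cz t ⊓ cz g₁ ≤ cz h' := key h' hh' (hco₁.coprime_dvd_right hhh') p₁ z₁ h₁ o₁ e₁ h01.symm hd'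
  have k3 : cz t ⊓ cz g₁ ≤ cz g₂ := by
    rw [hhm]
    exact fun x hx => mem_cz.2 (Commute.mul_right (mem_cz.1 (k1 hx)) (mem_cz.1 (k2 hx)))
  have e : cz t ⊓ cz g = cz t ⊓ cz g₁ := by rw [hczg, ← inf_assoc, inf_eq_left.2 k3]
  exact Or.inr (e ▸ hX)

theorem core_nilpotent {t : G} (hta : sz t = a) : Group.IsNilpotent (cz t).normalCore := by
  obtain ⟨q, v, hq, hvo, hv⟩ := D.exists_prime_c
  refine Fusion.isNilpotent_of_fpf_prime hq (hvo ▸ pow_orderOf_eq_one v)
    (by rw [normalizer_eq_top]; exact mem_top v) ?_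
  refine eq_bot_iff.2 (le_trans ?_ (D.inf_eq_bot (dvd_of_eq (D.card_cz_a hta)) hv).le)
  exact inf_le_inf_right _ (normalCore_le _)

/-- The centraliser of index `a` is not malnormal modulo its core. -/
theorem not_malnormal {t : G} (hta : sz t = a) (hsolv : Group.IsSolvable (cz t))
    (hall : ∀ g : G, g ∉ cz t → ∀ x ∈ cz t, g⁻¹ * x * g ∈ cz t → x ∈ (cz t).normalCore) : False := by
  set C := cz t with hC
  set K := C.normalCore with hK
  have hKC : K ≤ C := normalCore_le C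
  let f := QuotientGroup.mk' K
  have hmem : ∀ x : G, f x ∈ C.map f ↔ x ∈ C := fun x => by
    refine ⟨fun ⟨y, hy, e⟩ => ?_, fun h => mem_map_of_mem f h⟩
    have := mul_mem hy (hKC (QuotientGroup.eq.1 e))
    rwa [mul_inv_cancel_left] at this
  have hF : IsFrobeniusComplement (C.map f) := by
    refine Core.isFrobeniusComplement_of_malnormal (fun e => ?_) (fun e => ?_) fun gb hg xb hx hc => ?_
    · refine D.not_nilpotent_cz hta (Core.isNilpotent_mono (D.core_nilpotent hta) ?_)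
      intro x hx
      exact (QuotientGroup.eq_one_iff x).1 (mem_bot.1 (e ▸ mem_map_of_mem f hx))
    · have htop : C = ⊤ := (eq_top_iff' C).2 fun x => (hmem x).1 (e ▸ mem_top _)
      have h1 : sz t = 1 := index_eq_one.2 htop
      have := D.one_lt_a
      omega
    · obtain ⟨g, rfl⟩ := QuotientGroup.mk'_surjective K gb
      obtain ⟨x, hxC, rfl⟩ := hx
      rw [← map_inv, ← map_mul, ← map_mul, hmem] at hc
      exact (QuotientGroup.eq_one_iff x).2 (hall g⁻¹ (fun h => hg ((hmem g).2 (inv_inv g ▸ inv_mem h))) x hxC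
        (by rwa [inv_inv]))
  obtain ⟨N, -, hNn, hcompl⟩ := Core.exists_frobeniusKernel hF
  haveI := hNn
  set M := N.comap f with hM
  obtain ⟨q, v, -, -, hv⟩ := D.exists_prime_c
  have hidx : M.index ∣ c := by
    rw [hM, index_comap_of_surjective _ (QuotientGroup.mk'_surjective K), hcompl.symm.index_eq_card,
      ← D.card_cz_a hta]
    exact card_map_dvd _ f
  have hHM : cz v ≤ M := Core.le_of_coprime_index
    ((D.card_cz_c hv).symm ▸ D.cop.coprime_dvd_right hidx)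
  have hfac : ∀ g : G, ∃ x ∈ C, ∃ y ∈ cz v, g = x * y := exists_mem_cz (by rw [hta, hv]; exact D.cop)
  have hMsol : Group.IsSolvable M := by
    refine Core.kegel_wielandt (A := K.subgroupOf M) (B := (cz v).subgroupOf M)
      ((Group.isNilpotent_congr (subgroupOfEquivOfLe ?_)).2 (D.core_nilpotent hta))
      ((Group.isNilpotent_congr (subgroupOfEquivOfLe hHM)).2 (D.nilpotent_cz_c hv)) fun g => ?_
    · intro x hx
      show f x ∈ N
      rw [show f x = 1 from (QuotientGroup.eq_one_iff x).2 hx]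
      exact one_mem N
    · obtain ⟨x, hx, y, hy, e⟩ := hfac g
      have hxM : x ∈ M := by
        have := M.mul_mem g.2 (inv_mem (hHM hy))
        rwa [e, mul_inv_cancel_right] at this
      have hxK : x ∈ K := (QuotientGroup.eq_one_iff x).1
        (mem_bot.1 (hcompl.disjoint.le_bot ⟨hxM, mem_map_of_mem f hx⟩))
      exact ⟨⟨x, hxM⟩, hxK, ⟨y, hHM hy⟩, hy, Subtype.ext e⟩
  refine D.ns ((Group.isSolvable_iff_subgroup_quotient M).2 ⟨hMsol,
    Group.isSolvable_of_surjective (f := (QuotientGroup.mk' M).comp C.subtype) fun gb => ?_⟩)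
  obtain ⟨g, rfl⟩ := QuotientGroup.mk'_surjective M gb
  obtain ⟨x, hx, y, hy, rfl⟩ := hfac g
  refine ⟨⟨x, hx⟩, ?_⟩
  rw [map_mul, show QuotientGroup.mk' M y = 1 from (QuotientGroup.eq_one_iff y).2 (hHM hy), mul_one]
  rfl

theorem solvable_cz {k : ℕ} (hk : b = a * k) {r : ℕ} (hr : r.Prime)
    (hprimes : ∀ s : ℕ, s.Prime → s ∣ k → s = 2 ∨ s = r) {t : G} (hta : sz t = a) :
    Group.IsSolvable (cz t) := by
  haveI : Group.IsSolvable (G ⧸ res G) := isSolvable_quotient_res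
  haveI : Group.IsSolvable (res G ⊓ cz t : Subgroup G) := isSolvable_of_two Nat.prime_two hr fun s hs hsd => by
    refine hprimes s hs (by_contra fun hsk => ?_)
    exact D.not_dvd_res_of_not_dvd_k hk hs (D.card_cz_a hta ▸ hsd.trans (card_dvd_of_le inf_le_right)) hsk
      (hsd.trans (card_dvd_of_le inf_le_left))
  exact Group.isSolvable_of_ker_le_range (inclusion (inf_le_right : res G ⊓ cz t ≤ cz t))
    ((QuotientGroup.mk' (res G)).comp (cz t).subtype)
    fun x hx => ⟨⟨x, (QuotientGroup.eq_one_iff (x : G)).1 (MonoidHom.mem_ker.1 hx), x.2⟩, rfl⟩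

end Data

end Cfsg.Agent.ClassThree
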