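import Mathlib
import Cfsg.Agent.ClassThree.Centres
import Cfsg.Agent.Core.MinimalNormal

/-!
# Elementary abelian normal subgroups inside the core of a centraliser of index `a`
-/

set_option autoImplicit false
set_option linter.unusedSectionVars false
set_option linter.style.haveILetI false

namespace Cfsg.Agent.ClassThree

open Cfsg.Agent.CoprimeClass Subgroup
open Cfsg.Agent.ItoRankThree (sz_dvd_of_le eq_of_le_of_sz_eq mul_ne_one ne_one_of_orderOf)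

universe u

variable {G : Type u} [Group G]

theorem cz_conj_congr {x y : G} (h : cz x = cz y) (g : G) : cz (g * x * g⁻¹) = cz (g * y * g⁻¹) := by
  ext w
  rw [mem_cz_conj, mem_cz_conj, h]

theorem mem_of_conj_mem_cz {t g : G} (hg : g ∈ cz t) {w : G} : w ∈ cz (g * t * g⁻¹) ↔ w ∈ cz t := by
  rw [conj_eq_of_mem hg]

/-- An elementary abelian normal subgroup inside the core, all whose centralisers are conjugates of `cz t`. -/
structure Mod (t : G) (p : ℕ) (A : Subgroup G) : Prop where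
  hp : p.Prime
  normal : A.Normal
  exp : ∀ x ∈ A, x ^ p = 1
  comm : ∀ x ∈ A, ∀ y ∈ A, x * y = y * x
  ne_bot : A ≠ ⊥
  le_core : A ≤ (cz t).normalCore
  conj : ∀ x ∈ A, x ≠ 1 → ∃ g : G, cz x = cz (g * t * g⁻¹)

/-- The elements of `A` centralised by `cz t`. -/
def fixedPart (t : G) (A : Subgroup G) : Subgroup G := A ⊓ centralizer (cz t : Set G)

theorem mem_fixedPart {t x : G} {A : Subgroup G} : x ∈ fixedPart t A ↔ x ∈ A ∧ cz t ≤ cz x := by
  refine and_congr_right fun _ => ?_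
  show x ∈ centralizer (cz t : Set G) ↔ _
  rw [mem_centralizer_iff]
  exact ⟨fun h g hg => mem_cz.2 (h g hg), fun h g hg => mem_cz.1 (h hg)⟩

theorem fix_conj {t : G} {A : Subgroup G} {p g : G} (hp : p ∈ fixedPart t A) (hg : g ∈ cz t) :
    g * p * g⁻¹ = p := conj_eq_of_mem ((mem_fixedPart.1 hp).2 hg)

/-- The elements of `cz t` fixing the coset of `x` modulo the fixed part. -/
def stab (t : G) (A : Subgroup G) (x : G) : Subgroup G where
  carrier := {g | g ∈ cz t ∧ g * x * g⁻¹ * x⁻¹ ∈ fixedPart t A}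
  one_mem' := ⟨one_mem _, by simp⟩
  mul_mem' := by
    rintro g h ⟨hg, hg'⟩ ⟨hh, hh'⟩
    refine ⟨mul_mem hg hh, ?_⟩
    rw [show g * h * x * (g * h)⁻¹ * x⁻¹ = (g * (h * x * h⁻¹ * x⁻¹) * g⁻¹) * (g * x * g⁻¹ * x⁻¹) by group,
      fix_conj hh' hg]
    exact mul_mem hh' hg'
  inv_mem' := by
    rintro g ⟨hg, hg'⟩
    refine ⟨inv_mem hg, ?_⟩
    rw [show g⁻¹ * x * g⁻¹⁻¹ * x⁻¹ = g⁻¹ * (g * x * g⁻¹ * x⁻¹)⁻¹ * g⁻¹⁻¹ by group,
      fix_conj (inv_mem hg') (inv_mem hg)]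
    exact inv_mem hg'

theorem mem_stab {t g x : G} {A : Subgroup G} :
    g ∈ stab t A x ↔ g ∈ cz t ∧ g * x * g⁻¹ * x⁻¹ ∈ fixedPart t A := Iff.rfl

theorem stab_le {t x : G} {A : Subgroup G} : stab t A x ≤ cz t := fun _ h => h.1

theorem inf_cz_le_stab {t x : G} {A : Subgroup G} : cz t ⊓ cz x ≤ stab t A x := fun g hg =>
  ⟨hg.1, by rw [conj_eq_of_mem hg.2, mul_inv_cancel]; exact one_mem _⟩

namespace Mod

variable {t : G} {p : ℕ} {A : Subgroup G} (M : Mod t p A)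
include M

theorem conj_mem {x : G} (hx : x ∈ A) (g : G) : g * x * g⁻¹ ∈ A := M.normal.conj_mem x hx g

theorem delta_mem {x : G} (hx : x ∈ A) (g : G) : g * x * g⁻¹ * x⁻¹ ∈ A :=
  mul_mem (M.conj_mem hx g) (inv_mem hx)

theorem exists_centre : ∃ e ∈ A, e ≠ 1 ∧ orderOf e = p ∧ cz e = cz t := by
  obtain ⟨x, hx, hx1⟩ := (bot_or_exists_ne_one A).resolve_left M.ne_bot
  obtain ⟨g, hg⟩ := M.conj x hx hx1
  have he1 : g⁻¹ * x * g⁻¹⁻¹ ≠ 1 := conj_ne_one hx1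
  haveI := Fact.mk M.hp
  refine ⟨g⁻¹ * x * g⁻¹⁻¹, M.conj_mem hx _, he1,
    orderOf_eq_prime (M.exp _ (M.conj_mem hx _)) he1, ?_⟩
  ext w
  rw [mem_cz_conj, hg, mem_cz_conj]
  simp [mul_assoc]

theorem core_le_cz {x : G} (hx : x ∈ A) : (cz t).normalCore ≤ cz x := by
  intro w hw
  rcases eq_or_ne x 1 with rfl | hx1
  · exact mem_cz.2 (by simp)
  obtain ⟨g, hg⟩ := M.conj x hx hx1
  rw [hg, mem_cz_conj]
  have := hw g⁻¹
  rwa [inv_inv] at this

theorem mem_core {y : G} (h : ∀ x ∈ A, y ∈ cz x) : y ∈ (cz t).normalCore := by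
  intro b
  obtain ⟨e, he, -, -, hec⟩ := M.exists_centre
  have h1 := h _ (M.conj_mem he b⁻¹)
  rw [mem_cz_conj, inv_inv, hec] at h1
  exact h1

theorem stab_mul {x y g : G} (hx : x ∈ A) (h1 : g ∈ stab t A x) (h2 : g ∈ stab t A y) :
    g ∈ stab t A (x * y) := by
  refine ⟨h1.1, ?_⟩
  rw [show g * (x * y) * g⁻¹ * (x * y)⁻¹ = g * x * g⁻¹ * ((g * y * g⁻¹ * y⁻¹) * x⁻¹) by group,
    M.comm (g * y * g⁻¹ * y⁻¹) h2.2.1 x⁻¹ (inv_mem hx), ← mul_assoc]
  exact mul_mem h1.2 h2.2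

theorem stab_inv {x g : G} (hx : x ∈ A) (h1 : g ∈ stab t A x) : g ∈ stab t A x⁻¹ := by
  refine ⟨h1.1, ?_⟩
  rw [show g * x⁻¹ * g⁻¹ * x⁻¹⁻¹ = (g * x * g⁻¹)⁻¹ * x by group,
    M.comm _ (inv_mem (M.conj_mem hx g)) x hx,
    show x * (g * x * g⁻¹)⁻¹ = (g * x * g⁻¹ * x⁻¹)⁻¹ by group]
  exact inv_mem h1.2

theorem mem_stab_conj {x u g : G} (hu : u ∈ cz t) :
    g ∈ stab t A (u * x * u⁻¹) ↔ u⁻¹ * g * u ∈ stab t A x := by
  have key : u⁻¹ * g * u * x * (u⁻¹ * g * u)⁻¹ * x⁻¹ =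
      u⁻¹ * (g * (u * x * u⁻¹) * g⁻¹ * (u * x * u⁻¹)⁻¹) * u⁻¹⁻¹ := by group
  constructor
  · rintro ⟨hg, hg'⟩
    refine ⟨mul_mem (mul_mem (inv_mem hu) hg) hu, ?_⟩
    rw [key, fix_conj hg' (inv_mem hu)]
    exact hg'
  · rintro ⟨hg, hg'⟩
    refine ⟨?_, ?_⟩
    · have := mul_mem (mul_mem hu hg) (inv_mem hu)
      simpa [mul_assoc] using this
    · have h2 := fix_conj hg' hu
      rw [key, show u * (u⁻¹ * (g * (u * x * u⁻¹) * g⁻¹ * (u * x * u⁻¹)⁻¹) * u⁻¹⁻¹) * u⁻¹ =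
        g * (u * x * u⁻¹) * g⁻¹ * (u * x * u⁻¹)⁻¹ by group] at h2
      rw [h2, ← key]
      exact hg'

/-- The map `g ↦ [g, x]` on the stabiliser. -/
def delta {x : G} (hx : x ∈ A) : ↥(stab t A x) →* ↥A where
  toFun g := ⟨g * x * (g : G)⁻¹ * x⁻¹, M.delta_mem hx g⟩
  map_one' := Subtype.ext (by simp)
  map_mul' g h := Subtype.ext (by
    show (g : G) * h * x * ((g : G) * h)⁻¹ * x⁻¹ = (g * x * (g : G)⁻¹ * x⁻¹) * (h * x * (h : G)⁻¹ * x⁻¹)
    rw [show (g : G) * h * x * ((g : G) * h)⁻¹ * x⁻¹ =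
      (g * (h * x * (h : G)⁻¹ * x⁻¹) * (g : G)⁻¹) * (g * x * (g : G)⁻¹ * x⁻¹) by group,
      fix_conj h.2.2 g.2.1]
    exact M.comm _ h.2.2.1 _ g.2.2.1)

theorem delta_eq_one {x : G} (hx : x ∈ A) (g : ↥(stab t A x)) :
    M.delta hx g = 1 ↔ (g : G) ∈ cz x := by
  refine ⟨fun h => mem_of_conj_eq (mul_inv_eq_one.1 (congrArg Subtype.val h)), fun h => Subtype.ext ?_⟩
  show (g : G) * x * (g : G)⁻¹ * x⁻¹ = 1
  rw [conj_eq_of_mem h, mul_inv_cancel]

theorem ker_delta {x : G} (hx : x ∈ A) :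
    (M.delta hx).ker = (cz t ⊓ cz x).subgroupOf (stab t A x) := by
  ext g
  rw [MonoidHom.mem_ker, M.delta_eq_one hx, mem_subgroupOf]
  exact ⟨fun h => ⟨g.2.1, h⟩, fun h => h.2⟩

theorem pow_mem_cz {x g : G} (hx : x ∈ A) (hg : g ∈ stab t A x) : g ^ p ∈ cz x := by
  have h : M.delta hx (⟨g, hg⟩ ^ p) = 1 := by
    rw [map_pow]
    exact Subtype.ext (M.exp _ (SetLike.coe_mem _))
  exact (M.delta_eq_one hx _).1 h

theorem conj_inf_mem {x h d : G} (hh : h ∈ stab t A x) (hd : d ∈ cz t ⊓ cz x) :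
    h⁻¹ * d * h ∈ cz t ⊓ cz x := by
  refine ⟨(cz t).mul_mem ((cz t).mul_mem ((cz t).inv_mem (stab_le hh)) hd.1) (stab_le hh), mem_of_conj_eq ?_⟩
  have e1 : h * x * h⁻¹ = (h * x * h⁻¹ * x⁻¹) * x := by group
  calc h⁻¹ * d * h * x * (h⁻¹ * d * h)⁻¹ = h⁻¹ * (d * ((h * x * h⁻¹ * x⁻¹) * x) * d⁻¹) * h := by
        rw [← e1]; group
    _ = h⁻¹ * ((d * (h * x * h⁻¹ * x⁻¹) * d⁻¹) * (d * x * d⁻¹)) * h := by group
    _ = h⁻¹ * ((h * x * h⁻¹ * x⁻¹) * x) * h := by rw [fix_conj hh.2 hd.1, conj_eq_of_mem hd.2]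
    _ = x := by group

variable [Finite G]

theorem relIndex_stab_pow {x : G} (hx : x ∈ A) : ∃ i, (cz t ⊓ cz x).relIndex (stab t A x) = p ^ i := by
  haveI := Fact.mk M.hp
  obtain ⟨n, hn⟩ := IsPGroup.iff_card.1 (Core.isPGroup_of_forall_pow_eq_one M.exp)
  obtain ⟨i, -, hi⟩ := (Nat.dvd_prime_pow M.hp).1 (hn ▸ card_subgroup_dvd_card (M.delta hx).range)
  refine ⟨i, ?_⟩
  rw [relIndex, ← M.ker_delta hx, index_ker, hi]

/-- A subgroup of `cz t` of order a power of `p` fixes a non-trivial coset. -/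
theorem exists_stab_ge {S : Subgroup G} (hS : IsPGroup p S) (hSC : S ≤ cz t)
    (hne : ∃ x ∈ A, x ∉ fixedPart t A) : ∃ x ∈ A, x ∉ fixedPart t A ∧ S ≤ stab t A x := by
  haveI := Fact.mk M.hp
  set P : Subgroup ↥A := (fixedPart t A).subgroupOf A with hP
  let act : ↥S → ↥A ⧸ P → ↥A ⧸ P := fun s =>
    Quotient.map' (fun y => ⟨(s : G) * y * (s : G)⁻¹, M.conj_mem y.2 s⟩) fun y y' hy => by
      rw [QuotientGroup.leftRel_apply] at hy ⊢
      have h2 : (y : G)⁻¹ * y' ∈ fixedPart t A := hy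
      show ((s : G) * y * (s : G)⁻¹)⁻¹ * ((s : G) * y' * (s : G)⁻¹) ∈ fixedPart t A
      rw [show ((s : G) * y * (s : G)⁻¹)⁻¹ * ((s : G) * y' * (s : G)⁻¹) =
        s * ((y : G)⁻¹ * y') * (s : G)⁻¹ by group, fix_conj h2 (hSC s.2)]
      exact h2
  letI : MulAction ↥S (↥A ⧸ P) :=
    { smul := act
      one_smul := fun q => by
        induction q using QuotientGroup.induction_on with
        | H y => exact congrArg QuotientGroup.mk (Subtype.ext (by simp))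
      mul_smul := fun s s' q => by
        induction q using QuotientGroup.induction_on with
        | H y => exact congrArg QuotientGroup.mk (Subtype.ext (by simp [mul_assoc])) }
  obtain ⟨n, hn⟩ := IsPGroup.iff_card.1 (Core.isPGroup_of_forall_pow_eq_one M.exp)
  obtain ⟨x₀, hx₀, hx₀'⟩ := hne
  have hpd : p ∣ Nat.card (↥A ⧸ P) := by
    obtain ⟨i, -, hi⟩ := (Nat.dvd_prime_pow M.hp).1
      (hn ▸ (index_dvd_card P : P.index ∣ Nat.card ↥A))
    have hi0 : i ≠ 0 := fun e => by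
      rw [e, pow_zero, index_eq_one] at hi
      exact hx₀' (show (⟨x₀, hx₀⟩ : ↥A) ∈ P from hi ▸ mem_top _)
    rw [← index_eq_card, hi]
    exact dvd_pow_self p hi0
  have h1 : ((1 : ↥A) : ↥A ⧸ P) ∈ MulAction.fixedPoints ↥S (↥A ⧸ P) := fun s =>
    congrArg QuotientGroup.mk (Subtype.ext (by simp))
  obtain ⟨q, hq, hq1⟩ := hS.exists_fixed_point_of_prime_dvd_card_of_fixed_point _ hpd h1
  obtain ⟨y, rfl⟩ := QuotientGroup.mk_surjective q
  refine ⟨y, y.2, fun hy => hq1 ?_, fun s hs => ⟨hSC hs, ?_⟩⟩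
  · refine QuotientGroup.eq.2 ?_
    rw [inv_one, one_mul]
    exact hy
  · have h2 := QuotientGroup.eq.1 (hq ⟨s, hs⟩)
    have h3 : (s * y * s⁻¹)⁻¹ * (y : G) ∈ fixedPart t A := h2
    have h4 := inv_mem h3
    rw [mul_inv_rev, inv_inv, M.comm _ (inv_mem y.2) _ (M.conj_mem y.2 s)] at h4
    exact h4

end Mod

variable [Finite G] {a b c : ℕ}

theorem relIndex_of_index {H C : Subgroup G} (h : H ≤ C) {k : ℕ} (hC : C.index = a) (hH : H.index = a * k) :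
    H.relIndex C = k := by
  have e := relIndex_mul_index h
  rw [hC, hH, mul_comm a k] at e
  exact Nat.eq_of_mul_eq_mul_right (hC ▸ Nat.pos_of_ne_zero FiniteIndex.index_ne_zero) e

theorem Data.inf_conj_index (D : Data G a b c) {t e f g : G} (hta : sz t = a) (he1 : e ≠ 1)
    (hec : cz e = cz t) (hfc : cz f = cz t) (hco : (orderOf e).Coprime (orderOf f)) (hg : g ∉ cz t)
    (hmem : g * f * g⁻¹ ∈ cz t) : (cz t ⊓ cz (g * f * g⁻¹)).index = b := by
  refine (D.inf_index_cases hta hec he1 hmem (by rwa [orderOf_conj])).resolve_left fun hle => ?_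
  have hfa : sz f = a := (congrArg Subgroup.index hfc).trans hta
  exact hg (hfc ▸ D.mem_of_conj_cz_eq hfa ((eq_of_le_of_sz_eq hle
    ((sz_conj g f).trans hfa |>.trans hta.symm).symm).symm.trans hfc.symm))

namespace Mod

variable {t : G} {p p' : ℕ} {A B : Subgroup G}

theorem exists_not_fixed (D : Data G a b c) (hta : sz t = a) (M : Mod t p A) :
    ∃ x ∈ A, x ∉ fixedPart t A := by
  by_contra h
  push Not at h
  obtain ⟨e, he, -, -, hec⟩ := M.exists_centre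
  have htop : cz t = ⊤ := (eq_top_iff' _).2 fun g => by
    refine D.mem_of_conj_cz_eq hta ?_
    rw [← cz_conj_congr hec g]
    exact (eq_of_le_of_sz_eq (mem_fixedPart.1 (h _ (M.conj_mem he g))).2 (by
      rw [sz_conj]; exact (congrArg Subgroup.index hec).symm)).symm
  have := D.one_lt_a
  have : sz t = 1 := index_eq_one.2 htop
  omega

theorem inf_index (D : Data G a b c) (hta : sz t = a) (MA : Mod t p A) (MB : Mod t p' B) (hpp : p ≠ p')
    {x : G} (hx : x ∈ A) (hxP : x ∉ fixedPart t A) : (cz t ⊓ cz x).index = b := by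
  have hx1 : x ≠ 1 := fun e => hxP (e ▸ one_mem _)
  obtain ⟨g, hg⟩ := MA.conj x hx hx1
  obtain ⟨e, he, he1, heo, hec⟩ := MA.exists_centre
  obtain ⟨f, hf, -, hfo, hfc⟩ := MB.exists_centre
  have hgt : g ∉ cz t := fun h => hxP (mem_fixedPart.2 ⟨hx, fun w hw => hg ▸ (mem_of_conj_mem_cz h).2 hw⟩)
  rw [hg, ← cz_conj_congr hfc g]
  exact D.inf_conj_index hta he1 hec hfc (by rw [heo, hfo]; exact (Nat.coprime_primes MA.hp MB.hp).2 hpp) hgt
    ((normalCore_le _) (MB.le_core (MB.conj_mem hf g)))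

theorem relIndex_inf (D : Data G a b c) (hta : sz t = a) (MA : Mod t p A) (MB : Mod t p' B) (hpp : p ≠ p')
    {k : ℕ} (hk : b = a * k) {x : G} (hx : x ∈ A) (hxP : x ∉ fixedPart t A) :
    (cz t ⊓ cz x).relIndex (stab t A x) * (stab t A x).relIndex (cz t) = k := by
  rw [relIndex_mul_relIndex _ _ _ inf_cz_le_stab stab_le,
    relIndex_of_index inf_le_left hta ((inf_index D hta MA MB hpp hx hxP).trans hk)]

/-- The stabiliser of a coset modulo the centraliser is cyclic of order at most `p`. -/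
theorem relIndex_dvd (D : Data G a b c) (hta : sz t = a) (MA : Mod t p A) (MB : Mod t p' B) (hpp : p ≠ p')
    {x : G} (hx : x ∈ A) (hxP : x ∉ fixedPart t A) :
    (cz t ⊓ cz x).relIndex (stab t A x) ∣ p := by
  obtain ⟨i, hi⟩ := MA.relIndex_stab_pow hx
  by_contra hnd
  have hi2 : 2 ≤ i := by
    by_contra h
    exact hnd (hi ▸ (pow_dvd_pow p (show i ≤ 1 by omega)).trans (pow_one p).dvd)
  haveI := Fact.mk MA.hp
  set δ := MA.delta hx
  have hrange : p ^ i = Nat.card δ.range := by rw [← hi, relIndex, ← MA.ker_delta hx, index_ker]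
  have hp2 : p < p ^ i := by
    calc p = p ^ 1 := (pow_one p).symm
      _ < p ^ i := Nat.pow_lt_pow_right MA.hp.one_lt (by omega)
  obtain ⟨d₁, ⟨e₁, rfl⟩, hd₁⟩ := (bot_or_exists_ne_one δ.range).resolve_left fun h => by
    rw [h, card_bot] at hrange; have := MA.hp.one_lt; omega
  have ho₁ : orderOf (δ e₁) = p := orderOf_eq_prime (Subtype.ext (MA.exp _ (SetLike.coe_mem _))) hd₁
  obtain ⟨e₂, he₂⟩ : ∃ e₂, δ e₂ ∉ zpowers (δ e₁) := by
    by_contra h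
    push Not at h
    have hle : δ.range ≤ zpowers (δ e₁) := by rintro _ ⟨e, rfl⟩; exact h e
    have := card_le_of_le hle
    rw [Nat.card_zpowers, ho₁, ← hrange] at this
    omega
  set Dx := cz t ⊓ cz x
  set W := B ⊓ centralizer (Dx : Set G)
  have hW : ∀ {h : G}, h ∈ stab t A x → ∀ w ∈ W, h * w * h⁻¹ ∈ W := by
    intro h hh w hw
    refine ⟨MB.conj_mem hw.1 h, mem_centralizer_iff.2 fun d hd => ?_⟩
    have := mem_centralizer_iff.1 hw.2 _ (MA.conj_inf_mem hh hd)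
    calc d * (h * w * h⁻¹) = h * (h⁻¹ * d * h * w) * h⁻¹ := by group
      _ = h * (w * (h⁻¹ * d * h)) * h⁻¹ := by rw [this]
      _ = h * w * h⁻¹ * d := by group
  have hfixW : ∀ d ∈ Dx, ∀ w ∈ W, d * w * d⁻¹ = w := fun d hd w hw => by
    rw [mem_centralizer_iff.1 hw.2 d hd, mul_inv_cancel_right]
  obtain ⟨g, hg⟩ := MA.conj x hx (fun e => hxP (e ▸ one_mem _))
  obtain ⟨f, hf, -, hfo, hfc⟩ := MB.exists_centre
  set w₀ := g * f * g⁻¹ with hw₀
  have hw₀c : cz w₀ = cz x := by rw [hg, hw₀, cz_conj_congr hfc g]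
  have hw₀W : w₀ ∈ W := ⟨MB.conj_mem hf g,
    mem_centralizer_iff.2 fun d hd => mem_cz.1 (hw₀c.symm ▸ hd.2 : d ∈ cz w₀)⟩
  have hw₀P : w₀ ∉ fixedPart t B := fun h => hxP (mem_fixedPart.2 ⟨hx, hw₀c ▸ (mem_fixedPart.1 h).2⟩)
  have hstab : ∀ h ∈ stab t A x, h ∉ Dx → ∀ w ∈ W, h * w * h⁻¹ = w → w ∈ fixedPart t B := by
    intro h hh hhD w hw he
    by_contra hwP
    refine hhD ?_
    rw [eq_of_le_of_sz_le (H := Dx) (K := cz t ⊓ cz w)
      (le_inf inf_le_left fun d hd => mem_cz.2 (mem_centralizer_iff.1 hw.2 d hd))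
      (le_of_eq ((inf_index D hta MA MB hpp hx hxP).trans (inf_index D hta MB MA hpp.symm hw.1 hwP).symm))]
    exact ⟨hh.1, mem_of_conj_eq he⟩
  letI : CommGroup ↥W :=
    { (inferInstance : Group ↥W) with mul_comm := fun u w => Subtype.ext (MB.comm u u.2.1 w w.2.1) }
  set Sf := conjHom W (e₁ : G) (hW e₁.2)
  set Tf := conjHom W (e₂ : G) (hW e₂.2)
  have hST : ∀ u, Sf (Tf u) = Tf (Sf u) := by
    intro u
    have hk : (((e₂ * e₁)⁻¹ * (e₁ * e₂) : ↥(stab t A x)) : G) ∈ Dx := by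
      have hcomm : δ e₁ * δ e₂ = δ e₂ * δ e₁ := Subtype.ext (MA.comm _ (SetLike.coe_mem _) _ (SetLike.coe_mem _))
      have h1 : (e₂ * e₁)⁻¹ * (e₁ * e₂) ∈ δ.ker := by
        rw [MonoidHom.mem_ker, map_mul, map_inv, map_mul, map_mul, hcomm, inv_mul_cancel]
      rwa [MA.ker_delta hx, mem_subgroupOf] at h1
    refine Subtype.ext ?_
    show (e₁ : G) * ((e₂ : G) * u * (e₂ : G)⁻¹) * (e₁ : G)⁻¹ = e₂ * ((e₁ : G) * u * (e₁ : G)⁻¹) * (e₂ : G)⁻¹
    have h2 := hfixW _ hk _ u.2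
    simp only [Subgroup.coe_mul, InvMemClass.coe_inv] at h2
    calc (e₁ : G) * ((e₂ : G) * u * (e₂ : G)⁻¹) * (e₁ : G)⁻¹
        = (e₂ * e₁ : G) * (((e₂ : G) * e₁)⁻¹ * ((e₁ : G) * e₂) * u * (((e₂ : G) * e₁)⁻¹ * ((e₁ : G) * e₂))⁻¹) *
          ((e₂ : G) * e₁)⁻¹ := by group
      _ = (e₂ * e₁ : G) * u * ((e₂ : G) * e₁)⁻¹ := by rw [h2]
      _ = e₂ * ((e₁ : G) * u * (e₁ : G)⁻¹) * (e₂ : G)⁻¹ := by group
  have hper : ∀ (e : ↥(stab t A x)) (u : ↥W), (conjHom W (e : G) (hW e.2))^[p] u = u := fun e u =>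
    Subtype.ext (by
      rw [conjHom_iterate]
      exact hfixW _ ⟨pow_mem e.2.1 p, MA.pow_mem_cz hx e.2⟩ _ u.2)
  have hnorm : ∀ e : ↥(stab t A x), δ e ≠ 1 →
      ∏ i ∈ Finset.range p, (conjHom W (e : G) (hW e.2))^[i] ⟨w₀, hw₀W⟩ ∈ (fixedPart t B).subgroupOf W := by
    intro e he
    exact mem_subgroupOf.2 (hstab e e.2 (fun h => he ((MA.delta_eq_one hx e).2 h.2)) _ (SetLike.coe_mem _)
      (congrArg Subtype.val (prod_iterate_fixed _ (hper e _))))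
  have h := pow_mem_of_norms ((fixedPart t B).subgroupOf W) Sf Tf hST MA.hp (hper e₁)
    (fun u hu => by
      refine mem_subgroupOf.2 ?_
      show (e₂ : G) * u * (e₂ : G)⁻¹ ∈ _
      rw [fix_conj (mem_subgroupOf.1 hu) e₂.2.1]
      exact mem_subgroupOf.1 hu)
    (hnorm e₁ hd₁) fun j _ => by
      have e : ∀ i, Sf^[i * j] (Tf^[i] ⟨w₀, hw₀W⟩) =
          (conjHom W ((e₁ ^ j * e₂ : ↥(stab t A x)) : G) (hW (e₁ ^ j * e₂).2))^[i] ⟨w₀, hw₀W⟩ := by
        intro i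
        have hcomp : ⇑(conjHom W ((e₁ ^ j * e₂ : ↥(stab t A x)) : G) (hW (e₁ ^ j * e₂).2)) = Sf^[j] ∘ ⇑Tf := by
          funext u
          refine Subtype.ext ?_
          rw [Function.comp_apply, conjHom_iterate]
          show _ * (u : G) * _ = _ * ((e₂ : G) * u * (e₂ : G)⁻¹) * _
          simp [mul_assoc]
        rw [hcomp, (Function.Commute.iterate_left (f := ⇑Sf) (g := ⇑Tf) hST j).comp_iterate i,
          Function.comp_apply, ← Function.iterate_mul, mul_comm j i]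
      simp only [e]
      refine hnorm _ fun h1 => he₂ ?_
      rw [map_mul, map_pow] at h1
      rw [eq_inv_of_mul_eq_one_right h1]
      exact inv_mem (pow_mem (mem_zpowers _) j)
  have hpow : w₀ ^ p ∈ fixedPart t B := mem_subgroupOf.1 h
  obtain ⟨n, hn⟩ := exists_pow_eq_self_of_coprime (x := w₀) (n := p)
    (((Nat.coprime_primes MA.hp MB.hp).2 hpp).coprime_dvd_right
      (orderOf_dvd_of_pow_eq_one (MB.exp _ hw₀W.1)))
  exact hw₀P (hn ▸ pow_mem hpow n)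

end Mod

end Cfsg.Agent.ClassThree
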