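import Mathlib
import Cfsg.Agent.ClassThree.Centres
import Cfsg.Agent.ItoRankThree.CC
import Cfsg.Agent.Core.MinimalNormal
import Cfsg.Agent.Fusion.PGroup
import Cfsg.Agent.S0143
import Cfsg.Agent.S0215

/-!
# The case without solvable normal subgroups
-/

set_option autoImplicit false
set_option linter.unusedSectionVars false
set_option linter.style.haveILetI false

namespace Cfsg.Agent.ClassThree

open Cfsg.Agent.CoprimeClass Subgroup
open Cfsg.Agent.ItoRankThree (sz_dvd_of_le eq_of_le_of_sz_eq mul_ne_one ne_one_of_orderOf)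

universe u

variable {G : Type u} [Group G] [Finite G] {a b c : ℕ}

theorem exists_coprime_split {m p r : ℕ} (hm : m ≠ 0) (hp : p.Prime) (hr : r.Prime) (hpr : p ≠ r)
    (hpm : p ∣ m) (hrm : r ∣ m) : ∃ e e' : ℕ, m = e * e' ∧ 1 < e ∧ e.Coprime e' ∧ e * e < m := by
  wlog hlt : ordProj[r] m < ordProj[p] m generalizing p r with H
  · refine H hr hp hpr.symm hrm hpm (lt_of_le_of_ne (not_lt.1 hlt) fun h => ?_)
    have h1 : r ∣ ordProj[p] m := h ▸ dvd_pow_self r (hr.factorization_pos_of_dvd hm hrm).ne'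
    exact hpr ((Nat.prime_dvd_prime_iff_eq hr hp).1 (hr.dvd_of_dvd_pow h1)).symm
  obtain ⟨c, hc⟩ := Nat.ordProj_dvd m r
  refine ⟨ordProj[r] m, c, hc, Nat.one_lt_pow (hr.factorization_pos_of_dvd hm hrm).ne' hr.one_lt, ?_, ?_⟩
  · have := Nat.coprime_ordCompl hr hm
    have hc' : ordCompl[r] m = c := Nat.div_eq_of_eq_mul_right (Nat.pow_pos hr.pos) hc
    rw [hc'] at this
    exact this.pow_left _
  · calc ordProj[r] m * ordProj[r] m < ordProj[r] m * ordProj[p] m :=
          Nat.mul_lt_mul_of_pos_left hlt (Nat.pow_pos hr.pos)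
      _ ≤ m := Nat.le_of_dvd (by omega) ((Nat.coprime_pow_primes _ _ hr hp hpr.symm).mul_dvd_of_dvd_of_dvd
          (Nat.ordProj_dvd m r) (Nat.ordProj_dvd m p))

/-- In a simple group the centraliser of an involution, of odd index, has at least three orbits. -/
theorem no_two_orbits {N : Type u} [Group N] [Finite N] [IsSimpleGroup N] (hna : ¬ IsMulCommutative N)
    {t : N} (ht : orderOf t = 2) (hodd : ¬ 2 ∣ sz t)
    (horb : Nat.card (MulAction.orbitRel.Quotient ↥(cz t) (N ⧸ cz t)) = 2) : False := by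
  haveI : Fact (Nat.Prime 2) := ⟨Nat.prime_two⟩
  have ht1 := ne_one_of_orderOf Nat.prime_two ht
  have hns : ItoRankThree.NS N := ⟨inferInstance, hna⟩
  obtain ⟨P, hP⟩ := ItoRankThree.exists_sylow_le (p := 2) (C := cz t) hodd
  have htP := ItoRankThree.mem_sylow_of_le_cz (a := 1) (by rw [ht, pow_one]) hP
  obtain ⟨g, hgP, hgne⟩ : ∃ g : N, g * t * g⁻¹ ∈ (P : Subgroup N) ∧ g * t * g⁻¹ ≠ t := by
    by_contra hno
    push Not at hno
    obtain ⟨M, hM, hModd, hMc⟩ := S0215.result P t ht htP hno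
    rcases hns.normal M hM with rfl | rfl
    · refine ht1 (hns.eq_one_of_central fun z => ?_)
      have := mem_bot.1 (hMc z)
      exact (mul_inv_eq_iff_eq_mul.1 (mul_inv_eq_one.1 this)).symm
    · rw [card_top] at hModd
      exact Nat.not_even_iff_odd.2 hModd hns.even_card
  set C := cz t with hC
  have hgC : g⁻¹ ∉ C := fun h => hgne (conj_eq_of_mem (inv_inv g ▸ inv_mem h))
  have hfix : t • (QuotientGroup.mk g⁻¹ : N ⧸ C) = QuotientGroup.mk g⁻¹ := by
    rw [MulAction.Quotient.smul_mk, smul_eq_mul, eq_comm, QuotientGroup.eq]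
    simpa [mul_assoc] using hP hgP
  let π : N ⧸ C → MulAction.orbitRel.Quotient ↥C (N ⧸ C) := Quotient.mk''
  have hsing : ∀ z : N ⧸ C, π z = π (QuotientGroup.mk 1) → z = QuotientGroup.mk 1 := by
    intro z hz
    obtain ⟨c, rfl⟩ := MulAction.orbitRel_apply.1 (Quotient.eq''.1 hz)
    show (c : N) • (QuotientGroup.mk 1 : N ⧸ C) = _
    rw [MulAction.Quotient.smul_mk, smul_eq_mul, mul_one, QuotientGroup.eq, mul_one]
    exact inv_mem c.2
  have hne : π (QuotientGroup.mk g⁻¹) ≠ π (QuotientGroup.mk 1) := fun h => hgC (by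
    have := QuotientGroup.eq.1 (hsing _ h)
    simpa using inv_mem this)
  obtain ⟨o, -, huniq⟩ := (Nat.card_eq_two_iff' (π (QuotientGroup.mk 1))).1 horb
  have hall : ∀ b : N, t • (QuotientGroup.mk b : N ⧸ C) = QuotientGroup.mk b := by
    intro b
    by_cases hb : π (QuotientGroup.mk b) = π (QuotientGroup.mk 1)
    · rw [hsing _ hb, MulAction.Quotient.smul_mk, smul_eq_mul, mul_one, QuotientGroup.eq, mul_one]
      exact inv_mem (mem_cz.2 rfl)
    · have h2 : π (QuotientGroup.mk b) = π (QuotientGroup.mk g⁻¹) := (huniq _ hb).trans (huniq _ hne).symm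
      obtain ⟨c, hc⟩ := MulAction.orbitRel_apply.1 (Quotient.eq''.1 h2)
      rw [← hc]
      show t • ((c : N) • (QuotientGroup.mk g⁻¹ : N ⧸ C)) = (c : N) • (QuotientGroup.mk g⁻¹ : N ⧸ C)
      rw [← mul_smul, ← mem_cz.1 c.2, mul_smul, hfix]
  have hcore : t ∈ C.normalCore := fun b => by
    have h := hall b⁻¹
    rw [MulAction.Quotient.smul_mk, smul_eq_mul, eq_comm, QuotientGroup.eq] at h
    simpa [mul_assoc] using h
  rcases hns.normal C.normalCore inferInstance with h | h
  · exact ht1 (mem_bot.1 (h ▸ hcore))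
  · exact hgC (normalCore_le C (h.symm.le (mem_top _)))

namespace Data

variable (D : Data G a b c)
include D

theorem nilpotent_of_normal_coprime {M : Subgroup G} [M.Normal] (h : (Nat.card M).Coprime a) :
    Group.IsNilpotent M := by
  obtain ⟨q, v, hq, hvo, hv⟩ := D.exists_prime_c
  refine Fusion.isNilpotent_of_fpf_prime hq (hvo ▸ pow_orderOf_eq_one v)
    (by rw [normalizer_eq_top]; exact mem_top v) ?_
  exact card_eq_one.1 (Nat.eq_one_of_dvd_coprimes h (card_dvd_of_le inf_le_left)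
    (D.card_cz_c hv ▸ card_dvd_of_le inf_le_right))

/-- A minimal normal subgroup is simple when the solvable radical is trivial. -/
theorem simple_of_minNormal (hrad : Layer.solvRad G = ⊥) {N : Subgroup G} (hN : Core.IsMinNormal N) :
    IsSimpleGroup N := by
  haveI := hN.normal
  have hnsol : ∀ M : Subgroup G, M.Normal → Group.IsSolvable M → M = ⊥ := fun M h1 h2 =>
    le_bot_iff.1 (hrad ▸ le_sSup (show M ∈ {N : Subgroup G | N.Normal ∧ Group.IsSolvable N} from ⟨h1, h2⟩))
  haveI : Nontrivial N := (nontrivial_iff_ne_bot N).2 hN.ne_bot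
  obtain ⟨T, hT⟩ := Core.exists_isMinNormal (G := N)
  haveI := hT.normal
  set T' := T.map N.subtype with hT'
  have hTN : T' ≤ N := map_subtype_le T
  have hT'b : T' ≠ ⊥ := by
    rw [hT', Ne, map_eq_bot_iff_of_injective _ N.subtype_injective]; exact hT.ne_bot
  have hsub : T'.IsSubnormal := IsSubnormal.step _ N hTN
    (hN.normal.isSubnormal) (by rw [hT', subgroupOf, comap_map_eq_self_of_injective N.subtype_injective]; exact hT.normal)
  obtain ⟨y, hyT, hyc⟩ : ∃ y ∈ T', sz y = c := by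
    by_contra hno
    push Not at hno
    refine hT'b (le_bot_iff.1 (Layer.subnormal_le_radical (fun M => (Nat.card M).Coprime a) (by simp)
      (fun g M hM => by rwa [Layer.card_map_conj]) (fun _ _ hM hN h => Layer.coprime_card_sup h hM hN)
      ⊥ (fun M hM hc' => ?_) hsub ?_))
    · haveI := hM
      haveI := D.nilpotent_of_normal_coprime hc'
      exact (hnsol M hM inferInstance).le
    · refine Nat.coprime_of_dvd fun p hp h1 h2 => ?_
      obtain ⟨y, hy, hyo⟩ := exists_order hp h1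
      exact hno y hy (D.sz_eq_c (ne_one_of_orderOf hp hyo) (hyo ▸ h2))
  haveI hT'n : T'.Normal := by
    refine ⟨fun x hx g => ?_⟩
    let ψ : ↥N ≃* ↥N := MulAut.conjNormal g
    set T₂ := T.map ψ.toMonoidHom with hT₂
    haveI : T₂.Normal := hT.normal.map _ ψ.surjective
    rcases hT.le_or_inf_eq_bot T₂ with hle | hbot
    · obtain ⟨x', hx', rfl⟩ := hx
      have he : T₂ = T := (eq_of_le_of_card_ge hle
        (le_of_eq (card_map_of_injective (K := T) (f := ψ.toMonoidHom) ψ.injective))).symm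
      refine ⟨ψ x', he ▸ mem_map_of_mem _ hx', ?_⟩
      exact MulAut.conjNormal_apply g x'
    · exfalso
      obtain ⟨y', hy', rfl⟩ := hyT
      have hle : T₂.map N.subtype ≤ cz (y' : G) := by
        rintro _ ⟨w, hw, rfl⟩
        exact mem_cz.2 (congrArg Subtype.val
          (commute_of_normal_of_disjoint T T₂ hT.normal inferInstance (disjoint_iff.2 hbot) y' w hy' hw).symm.eq)
      haveI h2 := Core.isNilpotent_mono (D.nilpotent_cz_c hyc) hle
      haveI : Group.IsSolvable T' := by
        let e1 : ↥T₂ ≃* ↥(T₂.map N.subtype) := equivMapOfInjective T₂ _ N.subtype_injective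
        let e2 : ↥T ≃* ↥T₂ := equivMapOfInjective T _ ψ.injective
        let e3 : ↥T ≃* ↥T' := equivMapOfInjective T _ N.subtype_injective
        exact Group.isSolvable_of_surjective
          (f := ((e1.symm.trans e2.symm).trans e3).toMonoidHom) (MulEquiv.surjective _)
      exact hT'b (le_bot_iff.1 (hrad ▸ Layer.subnormal_le_solvRad hsub inferInstance))
  have hTtop : T = ⊤ := map_injective N.subtype_injective (by
    rw [← hT', (hN.eq_of_le T' hT'n hTN).resolve_left hT'b, ← MonoidHom.range_eq_map, range_subtype])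
  exact ⟨fun M hM => (hT.eq_of_le M hM (hTtop ▸ le_top)).imp id fun h => h.trans hTtop⟩

/-- A group with these sizes has a non-trivial solvable normal subgroup. -/
theorem solvRad_ne_bot (ha : ¬ 2 ∣ a) {k : ℕ} (hk : b = a * k) : Layer.solvRad G ≠ ⊥ := by
  intro hrad
  haveI : Fact (Nat.Prime 2) := ⟨Nat.prime_two⟩
  have hnsol : ∀ M : Subgroup G, M.Normal → Group.IsSolvable M → M = ⊥ := fun M h1 h2 =>
    le_bot_iff.1 (hrad ▸ le_sSup (show M ∈ {N : Subgroup G | N.Normal ∧ Group.IsSolvable N} from ⟨h1, h2⟩))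
  haveI := D.toHyp.nontrivial
  obtain ⟨N, hN⟩ := Core.exists_isMinNormal (G := G)
  haveI := hN.normal
  have hNns : ¬ Group.IsSolvable N := fun h => hN.ne_bot (hnsol N hN.normal h)
  have hsimple : IsSimpleGroup N := D.simple_of_minNormal hrad hN
  haveI := hsimple
  have hna : ¬ IsMulCommutative N := fun h => hNns (Group.isSolvable_of_comm fun x y => h.is_comm.comm x y)
  -- an involution of `N` of size `a`
  let S : Sylow 2 G := default
  have hNS : N.subgroupOf (S : Subgroup G) ≠ ⊥ := by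
    intro h
    refine hNns (S0205.result (Nat.odd_iff.2 (Nat.two_dvd_ne_zero.1 fun hd => ?_)))
    have := dvd_card_inf (L := N) (H := (S : Subgroup G)) hd (Nat.prime_two.coprime_iff_not_dvd.2 S.not_dvd_index)
    rw [disjoint_iff.1 (subgroupOf_eq_bot.1 h), card_bot] at this
    exact absurd this (by decide)
  obtain ⟨t, htN, htS, hto, hta⟩ : ∃ t ∈ N, (S : Subgroup G) ≤ cz t ∧ orderOf t = 2 ∧ sz t = a := by
    have hne := Fusion.pGroup_inf_center_ne_bot S.2 (N.subgroupOf (S : Subgroup G)) hNS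
    obtain ⟨j, hj⟩ := IsPGroup.iff_card.1
      (S.2.to_subgroup (N.subgroupOf (S : Subgroup G) ⊓ center ↥(S : Subgroup G)))
    have hj0 : j ≠ 0 := fun e => hne (card_eq_one.1 (by rw [hj, e, pow_zero]))
    obtain ⟨z, hz, hzo⟩ := exists_order Nat.prime_two (hj ▸ dvd_pow_self 2 hj0)
    have hle : (S : Subgroup G) ≤ cz (z : G) := fun x hx =>
      mem_cz.2 (congrArg Subtype.val (mem_center_iff.1 hz.2 ⟨x, hx⟩))
    rw [← orderOf_coe] at hzo
    refine ⟨z, hz.1, hle, hzo, (D.sz_a_or_b (ne_one_of_orderOf Nat.prime_two hzo)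
      (by rw [hzo]; exact D.two_dvd_c ha)).resolve_right fun e => S.not_dvd_index ?_⟩
    exact (hk ▸ dvd_mul_of_dvd_right (D.two_dvd_k ha hk) a : 2 ∣ b).trans (e ▸ index_dvd_of_le hle)
  obtain ⟨q, v, hq, hvo, hv⟩ := D.exists_prime_c
  haveI := Fact.mk hq
  set H := (cz v).subgroupOf N with hH
  set t' : ↥N := ⟨t, htN⟩ with ht'
  have hCt : cz t' = (cz t).subgroupOf N := centralizer_subtype N t'
  have hcard : ∀ K : Subgroup G, Nat.card (K.subgroupOf N) = Nat.card (N ⊓ K : Subgroup G) := fun K => by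
    rw [inf_comm, ← Nat.card_congr (subgroupOfEquivOfLe (inf_le_right : K ⊓ N ≤ N)).toEquiv, inf_subgroupOf_right]
  have hHcard : Nat.card H = (Nat.card N).gcd a := by
    rw [hH, hcard]
    exact Nat.dvd_antisymm (Nat.dvd_gcd (card_dvd_of_le inf_le_left) (D.card_cz_c hv ▸ card_dvd_of_le inf_le_right))
      (dvd_card_inf (Nat.gcd_dvd_left _ _) (by
        rw [show (cz v).index = c from hv]; exact D.cop.coprime_dvd_left (Nat.gcd_dvd_right _ _)))
  have hCcard : Nat.card (cz t') = (Nat.card N).gcd c := by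
    rw [hCt, hcard]
    exact Nat.dvd_antisymm (Nat.dvd_gcd (card_dvd_of_le inf_le_left) (D.card_cz_a hta ▸ card_dvd_of_le inf_le_right))
      (dvd_card_inf (Nat.gcd_dvd_left _ _) (by
        rw [show (cz t).index = a from hta]; exact D.cop.symm.coprime_dvd_left (Nat.gcd_dvd_right _ _)))
  have hidx : sz t' = Nat.card H := by
    have h1 := (cz t').card_mul_index
    have h2 : (Nat.card N).gcd a * (Nat.card N).gcd c = Nat.card N := by
      rw [← D.cop.gcd_mul, Nat.gcd_eq_left (D.card_group ▸ card_subgroup_dvd_card N)]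
    rw [hHcard]
    rw [hCcard, ← h2, mul_comm ((Nat.card N).gcd a) ((Nat.card N).gcd c)] at h1
    refine Nat.eq_of_mul_eq_mul_left (hCcard ▸ Nat.card_pos) ?_
    convert h1 using 2
    rw [mul_comm, h2]
  have hto' : orderOf t' = 2 := by rw [← orderOf_coe]; exact hto
  have htwo : ∀ p : ℕ, ∃ r : ℕ, r.Prime ∧ r ≠ p ∧ r ∣ Nat.card H := by
    intro p
    by_contra hno
    push Not at hno
    by_cases hp : p.Prime
    · have h := S0143.result p _ hp t' (ne_one_of_orderOf Nat.prime_two hto')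
        (hidx.trans (Nat.eq_prime_pow_of_unique_prime_dvd Nat.card_pos.ne' fun {d} hd hdd =>
          by_contra fun hne => hno d hd hne hdd))
      haveI : Fact (Nat.card N).Prime := ⟨h⟩
      haveI := isCyclic_of_prime_card (α := N) rfl
      exact hna IsCyclic.isMulCommutative
    · have h1 : Nat.card H = 1 := by
        by_contra hne
        obtain ⟨d, hd, hdd⟩ := Nat.exists_prime_and_dvd hne
        exact hno d hd (fun e => hp (e ▸ hd)) hdd
      rw [h1] at hidx
      exact ne_one_of_orderOf Nat.prime_two hto'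
        ((⟨inferInstance, hna⟩ : ItoRankThree.NS N).eq_one_of_central fun g =>
          mem_cz.1 ((index_eq_one.1 hidx).symm ▸ mem_top g))
  obtain ⟨habel, hcent⟩ : (∀ x ∈ cz v, ∀ y ∈ cz v, x * y = y * x) ∧ ∀ h ∈ cz v, h ≠ 1 → cz h = cz v :=
    (D.abelian_or_pgroup hq hvo hv).resolve_right fun h => by
      obtain ⟨r, hr, hrq, hrd⟩ := htwo q
      obtain ⟨j, hj⟩ := IsPGroup.iff_card.1 h
      have h2 : Nat.card H ∣ Nat.card (cz v) := by
        rw [hH, hcard]; exact card_dvd_of_le inf_le_right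
      exact hrq ((Nat.prime_dvd_prime_iff_eq hr hq).1 (hr.dvd_of_dvd_pow
        ((hrd.trans h2).trans hj.dvd)))
  have hCC : ItoRankThree.CC H (cz t') := by
    refine ⟨fun x hx y hy => Subtype.ext (habel _ hx _ hy), fun h hh h1 => ?_, fun h hh h1 x hx => ?_, hidx⟩
    · rw [centralizer_subtype, hcent (h : G) hh (fun e => h1 (Subtype.ext e))]
    · rw [hCt] at hx
      refine h1 (Subtype.ext (orderOf_eq_one_iff.1 (Nat.eq_one_of_dvd_coprimes D.cop
        (D.card_cz_c hv ▸ orderOf_dvd_card_of_mem (hh : (h : G) ∈ cz v)) (D.card_cz_a hta ▸ ?_))))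
      have hx' : ((x⁻¹ * h * x : ↥N) : G) ∈ cz t := hx
      have h2 := orderOf_dvd_card_of_mem hx'
      have h3 := orderOf_conj (x : G)⁻¹ (h : G)
      rw [inv_inv] at h3
      rwa [coe_mul, coe_mul, InvMemClass.coe_inv, h3] at h2
  obtain ⟨p, hp, -, hpH⟩ := htwo 0
  obtain ⟨r, hr, hrp, hrH⟩ := htwo p
  obtain ⟨e, e', hee, he, hcop, hlt⟩ := exists_coprime_split Nat.card_pos.ne' hp hr hrp.symm hpH hrH
  letI : Fintype N := Fintype.ofFinite N
  refine no_two_orbits hna hto' ?_ (ItoRankThree.two_orbits hCC hna hee he hcop hlt)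
  rw [hidx]
  exact fun h => ha (h.trans (hHcard ▸ Nat.gcd_dvd_right _ _))

end Data

end Cfsg.Agent.ClassThree
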