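import Mathlib
import Cfsg.Agent.ClassThree.Module
import Cfsg.Agent.ClassThree.Simple

/-!
# Finding the two elementary abelian normal subgroups
-/

set_option autoImplicit false
set_option linter.unusedSectionVars false
set_option linter.style.haveILetI false

namespace Cfsg.Agent.ClassThree

open Cfsg.Agent.CoprimeClass Subgroup
open Cfsg.Agent.ItoRankThree (sz_dvd_of_le eq_of_le_of_sz_eq mul_ne_one ne_one_of_orderOf)

universe u

variable {G : Type u} [Group G] [Finite G] {a b c : ℕ}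

/-- The hypotheses of the last case: two central primes `2` and `r`. -/
structure Pair (G : Type u) [Group G] (a b c k r : ℕ) (t z : G) : Prop extends Data G a b c where
  hk : b = a * k
  hk2 : 2 ∣ k
  hkr : r ∣ k
  hr : r.Prime
  hr2 : r ≠ 2
  hkc : k ∣ c
  primes : ∀ s : ℕ, s.Prime → s ∣ k → s = 2 ∨ s = r
  hto : orderOf t = 2
  hta : sz t = a
  hzo : orderOf z = r
  hzc : cz z = cz t
  hsolv : Group.IsSolvable (cz t)

namespace Pair

variable {k r : ℕ} {t z : G} (E : Pair G a b c k r t z)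
include E

theorem sz_z : sz z = a := (congrArg Subgroup.index E.hzc).trans E.hta

/-- A centre of prime order different from a given prime. -/
theorem exists_centre_ne (s : ℕ) : ∃ (ρ : ℕ) (f : G), ρ.Prime ∧ ρ ≠ s ∧ ρ ∣ k ∧ orderOf f = ρ ∧ cz f = cz t := by
  rcases eq_or_ne s 2 with rfl | hs
  · exact ⟨r, z, E.hr, E.hr2, E.hkr, E.hzo, E.hzc⟩
  · exact ⟨2, t, Nat.prime_two, hs.symm, E.hk2, E.hto, rfl⟩

theorem not_sz_b {x : G} {s i : ℕ} (hs : s.Prime) (hxo : orderOf x = s ^ i) (hxK : x ∈ (cz t).normalCore) :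
    sz x ≠ b := by
  intro hx
  have key : ∀ (f : G) (ρ : ℕ), ρ.Prime → ρ ≠ s → orderOf f = ρ → cz f = cz t →
      ∀ g : G, cz x ≤ cz (g * f * g⁻¹) := by
    intro f ρ hρ hρs hfo hfc g
    refine E.toData.le_of_sz_b hx (mem_cz.1 ?_).symm (by
      rw [orderOf_conj, hfo, hxo]; exact Nat.Coprime.pow_right _ ((Nat.coprime_primes hρ hs).2 hρs))
    rw [mem_cz_conj, hfc]
    have := hxK g⁻¹
    rwa [inv_inv] at this
  obtain ⟨ρ, f, hρ, hρs, -, hfo, hfc⟩ := E.exists_centre_ne s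
  have hxle : cz x ≤ (cz t).normalCore := fun w hw b => by
    have := key f ρ hρ hρs hfo hfc b⁻¹ hw
    rwa [mem_cz_conj, inv_inv, hfc] at this
  obtain ⟨σ, e, hσ, hσρ, -, heo, hec⟩ := E.exists_centre_ne ρ
  refine E.toData.not_malnormal E.hta E.hsolv fun g hg w hw hw' => hxle ?_
  have hgf : g * f * g⁻¹ ∈ cz t := normalCore_le _ (hxle (mem_cz_comm.1 (key f ρ hρ hρs hfo hfc g (mem_cz_self x))))
  have hidx := E.toData.inf_conj_index E.hta (ne_one_of_orderOf hσ heo) hec hfc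
    (by rw [heo, hfo]; exact (Nat.coprime_primes hσ hρ).2 hσρ) hg hgf
  have hle : cz x ≤ cz t ⊓ cz (g * f * g⁻¹) := le_inf (hxle.trans (normalCore_le _)) (key f ρ hρ hρs hfo hfc g)
  rw [eq_of_le_of_sz_le hle (le_of_eq (hx.trans hidx.symm))]
  exact mem_inf.2 ⟨hw, mem_cz_conj.2 (hfc ▸ hw')⟩

theorem mod_of_minNormal {A : Subgroup G} {s : ℕ} (hs : s.Prime) (hA : Core.IsMinNormal A)
    (hexp : ∀ x ∈ A, x ^ s = 1) (hcomm : ∀ x ∈ A, ∀ y ∈ A, x * y = y * x) (hle : A ≤ (cz t).normalCore) :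
    Mod t s A := by
  refine ⟨hs, hA.normal, hexp, hcomm, hA.ne_bot, hle, fun x hx hx1 => ?_⟩
  haveI := Fact.mk hs
  have hxo : orderOf x = s := orderOf_eq_prime (hexp x hx) hx1
  have hxc : orderOf x ∣ c := E.toData.card_cz_a E.hta ▸ orderOf_dvd_card_of_mem (normalCore_le _ (hle hx))
  have hxa : sz x = a := (E.toData.sz_a_or_b hx1 hxc).resolve_right
    (E.not_sz_b hs (by rw [hxo, pow_one]) (hle hx))
  obtain ⟨ρ, f, hρ, hρs, hρk, hfo, hfc⟩ := E.exists_centre_ne s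
  haveI := Fact.mk hρ
  have hfa : sz f = a := (congrArg Subgroup.index hfc).trans E.hta
  have hρa : ¬ ρ ∣ a := fun h => hρ.ne_one (Nat.eq_one_of_dvd_coprimes E.cop h (hρk.trans E.hkc))
  obtain ⟨P, hP⟩ := ItoRankThree.exists_sylow_le (p := ρ) (C := cz x) (show ¬ ρ ∣ sz x by rwa [hxa])
  obtain ⟨Q, hQ⟩ := ItoRankThree.exists_sylow_le (p := ρ) (C := cz f) (show ¬ ρ ∣ sz f by rwa [hfa])
  obtain ⟨g, hg⟩ := MulAction.exists_smul_eq G Q P
  refine ⟨g, ?_⟩
  rw [← cz_conj_congr hfc g]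
  have hPle : (P : Subgroup G) ≤ cz (g * f * g⁻¹) := by
    intro w hw
    rw [← hg, Sylow.coe_subgroup_smul, mem_pointwise_smul_iff_inv_smul_mem] at hw
    rw [mem_cz_conj]
    have h2 := hQ hw
    simpa [MulAut.smul_def] using h2
  have hc' : Commute x (g * f * g⁻¹) := mem_cz.1 (by
    rw [mem_cz_conj, hfc]
    have := hle hx g⁻¹
    rwa [inv_inv] at this)
  have hco : (orderOf x).Coprime (orderOf (g * f * g⁻¹)) := by
    rw [orderOf_conj, hxo, hfo]; exact (Nat.coprime_primes hs hρ).2 hρs.symm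
  have e := cz_mul hc' hco
  have hsz : sz (x * (g * f * g⁻¹)) = a := (E.toData.a_or_b (mul_ne_one hx1 hco)
    (hxa ▸ sz_dvd_of_le (e ▸ inf_le_left))).resolve_right fun h => P.not_dvd_index
      ((E.hk ▸ dvd_mul_of_dvd_right hρk a : ρ ∣ b).trans (h ▸ index_dvd_of_le (e ▸ le_inf hP hPle)))
  exact (eq_of_le_of_sz_eq (e ▸ inf_le_left) (hsz.trans hxa.symm)).symm.trans
    (eq_of_le_of_sz_eq (e ▸ inf_le_right) (hsz.trans ((sz_conj g f).trans hfa).symm))

theorem mod_of_centre {f : G} {ρ : ℕ} (hρ : ρ.Prime) (hfo : orderOf f = ρ) (hfK : f ∈ (cz t).normalCore) :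
    ∃ B, Mod t ρ B := by
  haveI := Fact.mk hρ
  set K := (cz t).normalCore
  haveI : Group.IsNilpotent K := E.toData.core_nilpotent E.hta
  let P : Sylow ρ K := default
  haveI hPn : (P : Subgroup K).Normal :=
    Sylow.normal_of_normalizerCondition Group.normalizerCondition_of_isNilpotent P
  set N := normalClosure ({f} : Set G)
  have hNK : N ≤ K := normalClosure_le_normal (Set.singleton_subset_iff.2 hfK)
  have hNP : N ≤ (P : Subgroup K).map K.subtype := by
    refine (closure_le _).2 fun w hw => ?_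
    have hwK : w ∈ K := hNK (subset_closure hw)
    obtain ⟨f', hf', hw'⟩ := Group.mem_conjugatesOfSet_iff.1 hw
    obtain ⟨g, rfl⟩ := isConj_iff.1 hw'
    rw [Set.mem_singleton_iff] at hf'
    subst hf'
    refine ⟨⟨_, hwK⟩, ?_, rfl⟩
    have hX : IsPGroup ρ (zpowers (⟨g * f' * g⁻¹, hwK⟩ : K)) := IsPGroup.iff_card.2 ⟨1, by
      rw [Nat.card_zpowers, orderOf_mk, orderOf_conj, hfo, pow_one]⟩
    exact (hX.to_sup_of_normal_right P.2).to_le le_rfl |> fun h =>
      (P.3 h le_sup_right).le (mem_sup_left (mem_zpowers _))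
  have hNp : IsPGroup ρ N := (P.2.map K.subtype).to_le hNP
  have hf1 : f ≠ 1 := ne_one_of_orderOf hρ hfo
  obtain ⟨B, hBN, hB⟩ := Core.exists_isMinNormal_le (N := N) fun h =>
    hf1 (mem_bot.1 (h ▸ subset_normalClosure (Set.mem_singleton f)))
  haveI := (hNp.to_le hBN).isNilpotent
  haveI := hB.isMulCommutative
  obtain ⟨ρ', hρ', hexp⟩ := hB.exists_prime_pow_eq_one
  obtain ⟨x, hx, hx1⟩ := (bot_or_exists_ne_one B).resolve_left hB.ne_bot
  haveI := Fact.mk hρ'
  obtain rfl : ρ' = ρ := by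
    obtain ⟨j, hj⟩ := IsPGroup.iff_orderOf.1 (hNp.to_le hBN) ⟨x, hx⟩
    rw [← orderOf_coe, orderOf_eq_prime (hexp x hx) hx1] at hj
    exact (Nat.prime_dvd_prime_iff_eq hρ' hρ).1 (hρ'.dvd_of_dvd_pow hj.dvd)
  exact ⟨B, E.mod_of_minNormal hρ' hB hexp (fun x hx y hy => congrArg Subtype.val
    ((‹IsMulCommutative B›).is_comm.comm ⟨x, hx⟩ ⟨y, hy⟩)) (hBN.trans hNK)⟩

theorem exists_mods (ha : ¬ 2 ∣ a) : ∃ A B : Subgroup G, Mod t 2 A ∧ Mod t r B := by
  obtain ⟨A, hAR, hA⟩ := Core.exists_isMinNormal_le (N := Layer.solvRad G)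
    (E.toData.solvRad_ne_bot ha E.hk)
  haveI := hA.normal
  haveI : Group.IsSolvable A := Core.isSolvable_mono Layer.solvRad_isSolvable hAR
  obtain ⟨s, hs, -, hexp⟩ := hA.exists_isPGroup
  haveI := Fact.mk hs
  haveI := hA.isMulCommutative
  have hcomm : ∀ x ∈ A, ∀ y ∈ A, x * y = y * x := fun x hx y hy => congrArg Subtype.val
    ((‹IsMulCommutative A›).is_comm.comm ⟨x, hx⟩ ⟨y, hy⟩)
  obtain ⟨x₀, hx₀, hx₀1⟩ := (bot_or_exists_ne_one A).resolve_left hA.ne_bot
  have hAord : ∀ x ∈ A, x ≠ 1 → orderOf x = s := fun x hx hx1 => orderOf_eq_prime (hexp x hx) hx1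
  have hsG : s ∣ a * c := E.toData.card_group ▸ hAord x₀ hx₀ hx₀1 ▸ orderOf_dvd_natCard x₀
  rcases hs.dvd_mul.1 hsG with hsa | hsc
  · exfalso
    have hrs : s ≠ r := fun h => hs.ne_one
      (Nat.eq_one_of_dvd_coprimes E.cop hsa (h ▸ E.hkr.trans E.hkc))
    have hra : ¬ r ∣ a := fun h => E.hr.ne_one (Nat.eq_one_of_dvd_coprimes E.cop h (E.hkr.trans E.hkc))
    haveI := Fact.mk E.hr
    refine E.toData.not_nilpotent_cz E.sz_z (E.toData.nilpotent_centraliser E.hr E.hzo E.sz_z fun g hg hrg => ?_)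
    obtain ⟨g', hg', hgo⟩ := exists_order (K := zpowers g) E.hr (by rwa [Nat.card_zpowers])
    have hzg' : Commute z g' := (mem_cz.1 (zpowers_le.2 hg hg')).symm
    refine zpowers_le.2 hg' (mem_zpowers_of_fpf hs E.hr hrs A hcomm hexp hA.ne_bot
      (E.hzo ▸ pow_orderOf_eq_one z) hgo hzg' fun e he her _ w hw hew => ?_)
    by_contra hw1
    refine hra ?_
    rw [← E.toData.card_cz_c (E.toData.sz_eq_c hw1 ((hAord w hw hw1).symm ▸ hsa)), ← orderOf_eq_prime her he]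
    exact orderOf_dvd_card_of_mem (mem_cz.2 hew)
  · have hcard : (Nat.card A).Coprime (cz t).index := by
      obtain ⟨n, hn⟩ := IsPGroup.iff_card.1 (Core.isPGroup_of_forall_pow_eq_one hexp)
      rw [hn, show (cz t).index = a from E.hta]
      exact Nat.Coprime.pow_left _ (E.cop.symm.coprime_dvd_left hsc)
    have MA := E.mod_of_minNormal hs hA hexp hcomm (normal_le_normalCore.2 (le_of_coprime_index hcard))
    obtain ⟨e, he, -, heo, hec⟩ := MA.exists_centre
    have hcore : ∀ f : G, cz f = cz t → f ∈ (cz t).normalCore := by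
      intro f hfc b
      have h1 : f ∈ cz (b⁻¹ * e * b⁻¹⁻¹) :=
        mem_cz_comm.1 (hfc ▸ normalCore_le _ (MA.le_core (MA.conj_mem he b⁻¹)))
      rwa [mem_cz_conj, inv_inv, hec] at h1
    rcases eq_or_ne s 2 with rfl | hs2
    · obtain ⟨B, MB⟩ := E.mod_of_centre E.hr E.hzo (hcore z E.hzc)
      exact ⟨A, B, MA, MB⟩
    rcases eq_or_ne s r with rfl | hsr
    · obtain ⟨B, MB⟩ := E.mod_of_centre Nat.prime_two E.hto (hcore t rfl)
      exact ⟨B, A, MB, MA⟩
    exact (E.toData.not_three_centres E.hta hs Nat.prime_two E.hr hs2 hsr E.hr2.symm heo E.hto E.hzo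
      hec rfl E.hzc).elim

end Pair

end Cfsg.Agent.ClassThree
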