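import Mathlib
import Cfsg.Agent.ClassThree.Mods

/-!
# The centraliser modulo its core: `k = 2 r`
-/

set_option autoImplicit false
set_option linter.unusedSectionVars false
set_option linter.style.haveILetI false

namespace Cfsg.Agent.ClassThree

open Cfsg.Agent.CoprimeClass Subgroup
open Cfsg.Agent.ItoRankThree (sz_dvd_of_le eq_of_le_of_sz_eq mul_ne_one ne_one_of_orderOf)

universe u

variable {G : Type u} [Group G] [Finite G] {a b c k r : ℕ} {t z : G}

theorem pow_not_mem {R : Type*} [Group R] [Finite R] {M : Subgroup R} [M.Normal] {q : ℕ} (hq : q.Prime)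
    (hM : M.index = q) {g : R} (hg : g ∉ M) {n : ℕ} (h0 : 0 < n) (hn : n < q) : g ^ n ∉ M := by
  intro h
  have hq' : g ^ q ∈ M := hM ▸ pow_index_mem M g
  have hco : n.Coprime q := (hq.coprime_iff_not_dvd.2 fun h => absurd (Nat.le_of_dvd h0 h) (not_le.2 hn)).symm
  refine hg ?_
  have e : g = (g ^ n) ^ Nat.gcdA n q * (g ^ q) ^ Nat.gcdB n q := by
    rw [← zpow_natCast g n, ← zpow_natCast g q, ← zpow_mul, ← zpow_mul, ← zpow_add, ← Nat.gcd_eq_gcd_ab,
      hco.gcd_eq_one]
    simp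
  rw [e]
  exact mul_mem (zpow_mem h _) (zpow_mem hq' _)

/-- The cosets of a normal subgroup of prime index are given by the powers of an outside element. -/
theorem exists_pow_mul_mem {R : Type*} [Group R] [Finite R] {M : Subgroup R} [M.Normal] {q : ℕ} (hq : q.Prime)
    (hM : M.index = q) {g : R} (hg : g ∉ M) (h : R) : ∃ j < q, g ^ j * h ∈ M := by
  have hinj : ∀ i j : Fin q, i.val < j.val →
      (((g ^ i.val)⁻¹ : R) : R ⧸ M) ≠ (((g ^ j.val)⁻¹ : R) : R ⧸ M) := by
    intro i j hij e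
    have h1 := QuotientGroup.eq.1 e
    rw [inv_inv] at h1
    refine pow_not_mem hq hM hg (n := j.val - i.val) (by omega) (by omega) ?_
    have h2 : g ^ i.val * (g ^ j.val)⁻¹ = (g ^ (j.val - i.val))⁻¹ := by
      rw [← Nat.sub_add_cancel hij.le, pow_add, Nat.add_sub_cancel]
      group
    exact inv_mem_iff.1 (h2 ▸ h1)
  have hbij : Function.Bijective fun j : Fin q => (((g ^ j.val)⁻¹ : R) : R ⧸ M) := by
    refine Function.Injective.bijective_of_nat_card_le (fun i j e => ?_)
      (by rw [← index_eq_card, hM, Nat.card_fin])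
    rcases lt_trichotomy i.val j.val with hlt | heq | hlt
    · exact absurd e (hinj i j hlt)
    · exact Fin.ext heq
    · exact absurd e.symm (hinj j i hlt)
  obtain ⟨j, hj⟩ := hbij.2 (h : R ⧸ M)
  refine ⟨j, j.2, ?_⟩
  have h1 := QuotientGroup.eq.1 hj
  rwa [inv_inv] at h1

namespace Pair

variable (E : Pair G a b c k r t z)
include E

/-- A Sylow subgroup for the prime of a module lies in some coset stabiliser. -/
theorem exists_full {p p' : ℕ} {A B : Subgroup G} (MA : Mod t p A) (MB : Mod t p' B) (hpp : p ≠ p')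
    (hpa : ¬ p ∣ a) (hpk : p ∣ k) :
    ∃ x ∈ A, x ∉ fixedPart t A ∧ (cz t ⊓ cz x).relIndex (stab t A x) = p ∧
      ¬ p ∣ (stab t A x).relIndex (cz t) := by
  haveI := Fact.mk MA.hp
  obtain ⟨S, hS⟩ := ItoRankThree.exists_sylow_le (p := p) (C := cz t) (show ¬ p ∣ sz t by rwa [E.hta])
  obtain ⟨x, hx, hxP, hxS⟩ := MA.exists_stab_ge S.2 hS (Mod.exists_not_fixed E.toData E.hta MA)
  have hnd : ¬ p ∣ (stab t A x).relIndex (cz t) := fun h => S.not_dvd_index
    (h.trans ((Dvd.intro _ (relIndex_mul_index stab_le) : _ ∣ (stab t A x).index).trans (index_dvd_of_le hxS)))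
  refine ⟨x, hx, hxP, ?_, hnd⟩
  rcases (Nat.dvd_prime MA.hp).1 (Mod.relIndex_dvd E.toData E.hta MA MB hpp hx hxP) with h | h
  · exact absurd (by
      have e := Mod.relIndex_inf E.toData E.hta MA MB hpp E.hk hx hxP
      rw [h, one_mul] at e
      rw [e]; exact hpk) hnd
  · exact h

theorem not_dvd_a {s : ℕ} (hs : s.Prime) (h : s ∣ k) : ¬ s ∣ a := fun h' =>
  hs.ne_one (Nat.eq_one_of_dvd_coprimes E.cop h' (h.trans E.hkc))

theorem sq_not_dvd {p p' : ℕ} {A B : Subgroup G} (MA : Mod t p A) (MB : Mod t p' B) (hpp : p ≠ p')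
    (hpk : p ∣ k) : ¬ p * p ∣ k := by
  intro h
  obtain ⟨x, hx, hxP, hd, hnd⟩ := E.exists_full MA MB hpp (E.not_dvd_a MA.hp hpk) hpk
  rw [← Mod.relIndex_inf E.toData E.hta MA MB hpp E.hk hx hxP, hd] at h
  exact hnd (Nat.dvd_of_mul_dvd_mul_left MA.hp.pos h)

theorem k_eq {A B : Subgroup G} (MA : Mod t 2 A) (MB : Mod t r B) : k = 2 * r := by
  obtain ⟨m, hm⟩ := (Nat.Coprime.mul_dvd_of_dvd_of_dvd ((Nat.coprime_primes Nat.prime_two E.hr).2 E.hr2.symm)
    E.hk2 E.hkr)
  rcases eq_or_ne m 1 with rfl | hm1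
  · rw [hm, mul_one]
  obtain ⟨s, hs, hsm⟩ := Nat.exists_prime_and_dvd hm1
  exfalso
  rcases E.primes s hs (hm ▸ dvd_mul_of_dvd_right hsm _) with rfl | rfl
  · exact E.sq_not_dvd MA MB E.hr2.symm E.hk2 (hm ▸ Nat.mul_dvd_mul (dvd_mul_right 2 r) hsm)
  · exact E.sq_not_dvd MB MA E.hr2 E.hkr (hm ▸ Nat.mul_dvd_mul (dvd_mul_left s 2) hsm)

/-- The part of the Sylow `r`-subgroup acting trivially has index at most `r`. -/
theorem not_sq_dvd_core {A B : Subgroup G} (MA : Mod t 2 A) (MB : Mod t r B) :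
    ¬ r * r ∣ (cz t).normalCore.relIndex (cz t) := by
  haveI := Fact.mk E.hr
  have hr := E.hr
  have hk2r := E.k_eq MA MB
  have hr3 : 2 < r := lt_of_le_of_ne hr.two_le (Ne.symm E.hr2)
  obtain ⟨R, hR⟩ := ItoRankThree.exists_sylow_le (p := r) (C := cz t)
    (show ¬ r ∣ sz t by rw [E.hta]; exact E.not_dvd_a hr E.hkr)
  have hRidx : ¬ r ∣ (R : Subgroup G).relIndex (cz t) := fun h =>
    R.not_dvd_index (h.trans (Dvd.intro _ (relIndex_mul_index hR)))
  set T : G → Subgroup ↥(R : Subgroup G) := fun x => (stab t A x).subgroupOf (R : Subgroup G) with hT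
  have hmemT : ∀ x (s : ↥(R : Subgroup G)), s ∈ T x ↔ (s : G) ∈ stab t A x := fun x s => Iff.rfl
  have hidx : ∀ x ∈ A, x ∉ fixedPart t A → (T x).index = r := by
    intro x hx hxP
    have e := Mod.relIndex_inf E.toData E.hta MA MB E.hr2.symm E.hk hx hxP
    rw [hk2r] at e
    have hd2 := (Nat.dvd_prime Nat.prime_two).1 (Mod.relIndex_dvd E.toData E.hta MA MB E.hr2.symm hx hxP)
    set f := (stab t A x).relIndex (cz t) with hf
    have hfb : f ≤ 2 * r ∧ r ∣ f := by
      rcases hd2 with h | h <;> rw [h] at e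
      · rw [one_mul] at e; exact ⟨e.le, e ▸ dvd_mul_left r 2⟩
      · have := Nat.eq_of_mul_eq_mul_left (by norm_num : 0 < 2) e
        exact ⟨by omega, this ▸ dvd_rfl⟩
    obtain ⟨j, hj⟩ := IsPGroup.index (R.2) (T x)
    rw [hj]
    rcases j with _ | _ | j
    · exfalso
      rw [pow_zero, index_eq_one, subgroupOf_eq_top] at hj
      exact hRidx (hfb.2.trans (relIndex_dvd_of_le_left _ hj))
    · rw [pow_one]
    · exfalso
      have h1 : (T x).index ≤ f := relIndex_le_of_le_right hR (FiniteIndex.index_ne_zero (H := (stab t A x).subgroupOf (cz t)))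
      rw [hj] at h1
      have h2 : r * r ≤ r ^ (j + 2) := by
        rw [← pow_two]; exact Nat.pow_le_pow_right hr.pos (by omega)
      nlinarith [hfb.1]
  have hnormal : ∀ x ∈ A, x ∉ fixedPart t A → (T x).Normal := by
    intro x hx hxP
    haveI := R.2.isNilpotent
    refine normal_of_index_eq_minFac_card ?_
    rw [hidx x hx hxP]
    obtain ⟨n, hn⟩ := IsPGroup.iff_card.1 R.2
    have hn0 : n ≠ 0 := fun e => by
      have := hidx x hx hxP
      have h1 : (T x).index ∣ Nat.card ↥(R : Subgroup G) := index_dvd_card _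
      rw [this, hn, e, pow_zero] at h1
      exact hr.ne_one (Nat.dvd_one.1 h1)
    rw [hn, Nat.pow_minFac hn0, hr.minFac_eq]
  have heq : ∀ x ∈ A, x ∉ fixedPart t A → ∀ y ∈ A, y ∉ fixedPart t A → T x ≤ T y := by
    intro v hv hvP w hw hwP
    by_contra hnle
    haveI := hnormal v hv hvP
    haveI := hnormal w hw hwP
    obtain ⟨h, hhv, hhw⟩ := SetLike.not_le_iff_exists.1 hnle
    obtain ⟨g, hgw, hgv⟩ : ∃ g ∈ T w, g ∉ T v := SetLike.not_le_iff_exists.1 fun hle => hnle
      (eq_of_le_of_sz_le hle ((hidx w hw hwP).trans (hidx v hv hvP).symm).le).ge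
    set cv : ℕ → G := fun i => (g : G) ^ i * v * ((g : G) ^ i)⁻¹ with hcv
    have hgC : ∀ i : ℕ, (g : G) ^ i ∈ cz t := fun i => pow_mem (hR g.2) i
    have hcvA : ∀ i, cv i ∈ A := fun i => MA.conj_mem hv _
    have hcvT : ∀ i (s : ↥(R : Subgroup G)), (s : G) ∈ stab t A (cv i) ↔ s ∈ T v := by
      intro i s
      rw [hcv, MA.mem_stab_conj (hgC i)]
      have h1 : ((g : G) ^ i)⁻¹ * s * (g : G) ^ i = (((g ^ i)⁻¹ * s * g ^ i : ↥(R : Subgroup G)) : G) := by simp
      rw [h1, ← hmemT, show (g ^ i)⁻¹ * s * g ^ i = (g ^ i)⁻¹ * s * ((g ^ i)⁻¹)⁻¹ by rw [inv_inv]]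
      exact ⟨fun h => by simpa [mul_assoc] using (hnormal v hv hvP).conj_mem _ h (g ^ i),
        fun h => (hnormal v hv hvP).conj_mem _ h _⟩
    set X : ℕ → G := fun i => cv i * w with hX
    have hXA : ∀ i, X i ∈ A := fun i => mul_mem (hcvA i) hw
    have hXw : ∀ i (s : ↥(R : Subgroup G)), (s : G) ∈ stab t A (X i) → ((s ∈ T v) ↔ s ∈ T w) := by
      intro i s hs
      rw [← hcvT i, hmemT]
      constructor
      · intro h1
        have := MA.stab_mul (inv_mem (hcvA i)) (MA.stab_inv (hcvA i) h1) hs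
        rwa [hX, inv_mul_cancel_left] at this
      · intro h1
        have := MA.stab_mul (hXA i) hs (MA.stab_inv hw h1)
        rwa [hX, mul_inv_cancel_right] at this
    have hgX : ∀ i, (g : G) ∉ stab t A (X i) := fun i hgi => hgv ((hXw i g hgi).2 hgw)
    have hhX : ∀ i, (h : G) ∉ stab t A (X i) := fun i hhi => hhw ((hXw i h hhi).1 hhv)
    have hXP : ∀ i, X i ∉ fixedPart t A := fun i hP => hgX i ⟨hR g.2, by
      rw [fix_conj hP (hR g.2), mul_inv_cancel]; exact one_mem _⟩
    have hj : ∀ i : ℕ, ∃ j : Fin (r - 1), g ^ (j.val + 1) * h ∈ T (X i) := by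
      intro i
      haveI := hnormal _ (hXA i) (hXP i)
      obtain ⟨j, hjr, hjm⟩ := exists_pow_mul_mem hr (hidx _ (hXA i) (hXP i))
        (show g ∉ T (X i) from hgX i) h
      rcases j with _ | j
      · rw [pow_zero, one_mul] at hjm; exact absurd hjm (hhX i)
      · exact ⟨⟨j, by omega⟩, hjm⟩
    choose j hj using hj
    obtain ⟨i, i', hii, hjj⟩ : ∃ i i' : Fin r, i.val < i'.val ∧ j i.val = j i'.val := by
      obtain ⟨i, i', hne, he⟩ := Fintype.exists_ne_map_eq_of_card_lt (fun i : Fin r => j i.val)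
        (by simp; omega)
      rcases lt_or_gt_of_ne hne with h' | h'
      exacts [⟨i, i', h', he⟩, ⟨i', i, h', he.symm⟩]
    set e := g ^ ((j i.val).val + 1) * h with he
    set d := cv i.val * (cv i'.val)⁻¹ with hd
    have hdA : d ∈ A := mul_mem (hcvA _) (inv_mem (hcvA _))
    have hde : (e : G) ∈ stab t A d := by
      have h1 : (e : G) ∈ stab t A (X i.val) := hj i.val
      have h2 : (e : G) ∈ stab t A (X i'.val) := by rw [he, hjj]; exact hj i'.val
      have := MA.stab_mul (hXA _) h1 (MA.stab_inv (hXA _) h2)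
      rwa [hX, show cv i.val * w * (cv i'.val * w)⁻¹ = cv i.val * (cv i'.val)⁻¹ by group] at this
    have hdP : d ∉ fixedPart t A := by
      intro hP
      refine pow_not_mem hr (hidx v hv hvP) hgv (n := i'.val - i.val) (by omega) (by have := i'.2; omega) ?_
      have h3 := inv_mem hP
      rw [hd, mul_inv_rev, inv_inv] at h3
      have h4 := fix_conj h3 (inv_mem (hgC i.val))
      rw [show ((g : G) ^ i.val)⁻¹ * (cv i'.val * (cv i.val)⁻¹) * ((g : G) ^ i.val)⁻¹⁻¹ =
        (g : G) ^ (i'.val - i.val) * v * ((g : G) ^ (i'.val - i.val))⁻¹ * v⁻¹ by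
          simp only [hcv]
          rw [← Nat.sub_add_cancel hii.le, pow_add, Nat.add_sub_cancel]
          have hc' := (Commute.refl (g : G)).pow_pow (i'.val - i.val) i.val
          rw [hc'.eq]
          group] at h4
      rw [hmemT]
      exact ⟨by simpa using hgC (i'.val - i.val), by rw [coe_pow, h4]; exact h3⟩
    have hTd : T v = T d := eq_of_le_of_sz_le (fun s hs => (hmemT d s).2
      (MA.stab_mul (hcvA _) ((hcvT _ s).2 hs) (MA.stab_inv (hcvA _) ((hcvT _ s).2 hs))))
      ((hidx v hv hvP).trans (hidx d hdA hdP).symm).le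
    refine pow_not_mem hr (hidx v hv hvP) hgv (n := (j i.val).val + 1) (by omega)
      (by have := (j i.val).2; omega) ?_
    have hev : e ∈ T v := by rw [hTd]; exact hde
    have := mul_mem hev (inv_mem hhv)
    rwa [he, mul_inv_cancel_right] at this
  obtain ⟨x₀, hx₀, hx₀P⟩ := Mod.exists_not_fixed E.toData E.hta MA
  set R₀ := (T x₀).map (R : Subgroup G).subtype with hR₀
  have hR₀K : R₀ ≤ (cz t).normalCore := by
    rintro _ ⟨s, hs, rfl⟩
    refine MA.mem_core fun x hx => ?_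
    by_cases hxP : x ∈ fixedPart t A
    · exact (mem_fixedPart.1 hxP).2 (hR s.2)
    have h2 := MA.pow_mem_cz hx (heq x₀ hx₀ hx₀P x hx hxP hs)
    obtain ⟨n, hn⟩ := IsPGroup.iff_orderOf.1 R.2 s
    obtain ⟨m, hm⟩ := exists_pow_eq_self_of_coprime (x := (s : G)) (n := 2) (by
      rw [← orderOf_coe] at hn
      rw [hn]
      exact Nat.Coprime.pow_right _ ((Nat.coprime_primes Nat.prime_two hr).2 E.hr2.symm))
    rw [Subgroup.coe_subtype, ← hm]
    exact pow_mem h2 m
  intro hdvd
  have e1 : Nat.card R₀ * r = Nat.card ↥(R : Subgroup G) := by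
    rw [hR₀, card_map_of_injective (subtype_injective _)]
    exact (congrArg (Nat.card (T x₀) * ·) (hidx x₀ hx₀ hx₀P)).symm.trans (card_mul_index _)
  have e2 : Nat.card ↥(cz t).normalCore * (cz t).normalCore.relIndex (cz t) = Nat.card ↥(cz t) := by
    rw [← relIndex_bot_left, ← relIndex_bot_left, relIndex_mul_relIndex _ _ _ bot_le (normalCore_le _)]
  have e3 : Nat.card ↥(R : Subgroup G) * (R : Subgroup G).relIndex (cz t) = Nat.card ↥(cz t) := by
    rw [← relIndex_bot_left, ← relIndex_bot_left, relIndex_mul_relIndex _ _ _ bot_le hR]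
  have e4 := Nat.mul_dvd_mul (card_dvd_of_le hR₀K) hdvd
  rw [e2, ← e3, ← mul_assoc, e1] at e4
  exact hRidx (Nat.dvd_of_mul_dvd_mul_left Nat.card_pos e4)

end Pair

end Cfsg.Agent.ClassThree
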