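import Mathlib
import Cfsg.Agent.ClassThree.Index

/-!
# The centraliser modulo its core has order `2 r`, and the conclusion
-/

set_option autoImplicit false
set_option linter.unusedSectionVars false
set_option linter.style.haveILetI false

namespace Cfsg.Agent.ClassThree

open Cfsg.Agent.CoprimeClass Subgroup
open Cfsg.Agent.ItoRankThree (sz_dvd_of_le eq_of_le_of_sz_eq mul_ne_one ne_one_of_orderOf)

universe u

variable {G : Type u} [Group G] [Finite G] {a b c k r : ℕ} {t z : G}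

namespace Pair

variable (E : Pair G a b c k r t z)
include E

theorem core_relIndex {A B : Subgroup G} (MA : Mod t 2 A) (MB : Mod t r B) :
    (cz t).normalCore.relIndex (cz t) = k := by
  classical
  set C := cz t with hC
  set K := C.normalCore with hK
  have hk2r := E.k_eq MA MB
  have hKC : K ≤ C := normalCore_le C
  haveI := Fact.mk E.hr
  obtain ⟨y, hy, hyP, hDy, hnd⟩ := E.exists_full MB MA E.hr2 (E.not_dvd_a E.hr E.hkr) E.hkr
  set C₁ := stab t B y with hC₁
  set D := C ⊓ cz y with hD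
  have h1 := Mod.relIndex_inf E.toData E.hta MB MA E.hr2 E.hk hy hyP
  rw [hDy] at h1
  have hC1idx : C₁.relIndex C = 2 := by
    have h2 : r * C₁.relIndex C = r * 2 := by rw [h1, hk2r, mul_comm]
    exact Nat.eq_of_mul_eq_mul_left E.hr.pos h2
  have hKle : ∀ w ∈ B, K ≤ cz w := fun w hw => MB.core_le_cz hw
  have hKD : K ≤ D := le_inf hKC (hKle y hy)
  have hDC₁ : D ≤ C₁ := inf_cz_le_stab
  set m := K.relIndex D with hm
  have hKidx : K.relIndex C = m * k := by
    rw [← relIndex_mul_relIndex _ _ _ hKD inf_le_left, ← hm,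
      relIndex_of_index inf_le_left E.hta ((Mod.inf_index E.toData E.hta MB MA E.hr2 hy hyP).trans E.hk)]
  have hrm : ¬ r ∣ m := fun h => E.not_sq_dvd_core MA MB (by
    rw [hKidx, hk2r]
    exact Nat.mul_dvd_mul h (dvd_mul_left r 2))
  have hm0 : m ≠ 0 := FiniteIndex.index_ne_zero
  -- the only subgroup of index `r` in `C₁` above the core
  haveI hKn : K.Normal := normalCore_normal C
  haveI hDn : (D.subgroupOf C₁).Normal := by
    refine ⟨fun d hd g => ?_⟩
    rw [mem_subgroupOf] at hd ⊢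
    have := MB.conj_inf_mem (inv_mem g.2) hd
    rw [inv_inv] at this
    exact (this : (g : G) * d * (g : G)⁻¹ ∈ D)
  have huniq : ∀ M : Subgroup G, M ≤ C₁ → K ≤ M → M.relIndex C₁ = r → M = D := by
    intro M hM hKM hMr
    have h2 : K.relIndex M = m := by
      have e1 := relIndex_mul_relIndex _ _ _ hKM hM
      rw [← relIndex_mul_relIndex _ _ _ hKD hDC₁, hMr, hDy, ← hm] at e1
      exact Nat.eq_of_mul_eq_mul_right E.hr.pos e1
    have h3 : D.relIndex M ∣ r := by
      have := relIndex_dvd_index_of_normal (D.subgroupOf C₁) (M.subgroupOf C₁)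
      rw [relIndex_subgroupOf hM] at this
      exact hDy ▸ this
    have hle : M ≤ D := relIndex_eq_one.1 (Nat.eq_one_of_dvd_coprimes (E.hr.coprime_iff_not_dvd.2 hrm) h3
      (h2 ▸ relIndex_dvd_of_le_left M hKD))
    refine le_antisymm hle (relIndex_eq_one.1 ?_)
    have e2 := relIndex_mul_relIndex _ _ _ hKM hle
    rw [h2, ← hm] at e2
    exact (mul_eq_left₀ hm0).1 e2
  have hC₁n : ∀ g ∈ C, ∀ h ∈ C₁, g * h * g⁻¹ ∈ C₁ := by
    intro g hg h hh
    haveI : (C₁.subgroupOf C).Normal := normal_of_index_eq_two hC1idx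
    exact (inferInstance : (C₁.subgroupOf C).Normal).conj_mem ⟨h, stab_le hh⟩ hh ⟨g, hg⟩
  -- the subgroup `D` is normal in `C`
  have hDn' : ∀ g ∈ C, ∀ d ∈ D, g * d * g⁻¹ ∈ D := by
    intro g hg d hd
    set φ := (MulAut.conj g).toMonoidHom with hφ
    have hφi : Function.Injective φ := (MulAut.conj g).injective
    have hle : D.map φ ≤ C₁ := by
      rintro _ ⟨x, hx, rfl⟩
      exact hC₁n g hg x (hDC₁ hx)
    have hKM : K ≤ D.map φ := fun x hx => ⟨g⁻¹ * x * g, hKD (by
      have := hKn.conj_mem x hx g⁻¹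
      rwa [inv_inv] at this), by simp [hφ, mul_assoc]⟩
    have hr' : (D.map φ).relIndex C₁ = r := by
      have hC₁e : C₁.map φ = C₁ := eq_of_le_of_card_ge (by rintro _ ⟨x, hx, rfl⟩; exact hC₁n g hg x hx)
        (card_map_of_injective hφi).ge
      rw [← hC₁e, relIndex_map_map_of_injective _ _ hφi, hDy]
    exact (huniq _ hle hKM hr') ▸ mem_map_of_mem φ hd
  -- `D` fixes every coset
  have hfix : ∀ v ∈ B, ∀ d ∈ D, d ∈ stab t B v := by
    intro v hv d₀ hd₀
    by_contra hd₀v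
    letI : CommGroup ↥B :=
      { (inferInstance : Group ↥B) with mul_comm := fun u w => Subtype.ext (MB.comm u u.2 w w.2) }
    set K' := K.subgroupOf D
    haveI : K'.Normal := hKn.subgroupOf D
    letI : Fintype (↥D ⧸ K') := Fintype.ofFinite _
    have hcard : Fintype.card (↥D ⧸ K') = m := by rw [← Nat.card_eq_fintype_card]; rfl
    have hinv : ∀ g : G, ∀ w ∈ B, g * w * g⁻¹ ∈ B := fun g w hw => MB.conj_mem hw g
    have hcongr : ∀ (d e : ↥D) (w : ↥B), (d : ↥D ⧸ K') = (e : ↥D ⧸ K') →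
        conjHom B (d : G) (hinv d) w = conjHom B (e : G) (hinv e) w := by
      intro d e w h
      refine Subtype.ext ?_
      show (d : G) * w * (d : G)⁻¹ = e * w * (e : G)⁻¹
      have hk0 : d⁻¹ * e ∈ K' := QuotientGroup.eq.1 h
      have hk' : (d : G)⁻¹ * e ∈ K := hk0
      have h4 := conj_eq_of_mem (hKle w w.2 hk')
      calc (d : G) * w * (d : G)⁻¹ = d * ((d : G)⁻¹ * e * w * ((d : G)⁻¹ * e)⁻¹) * (d : G)⁻¹ := by rw [h4]
        _ = e * w * (e : G)⁻¹ := by group
    let nrm : ↥B → ↥B := fun w => ∏ q : ↥D ⧸ K', conjHom B (q.out : G) (hinv _) w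
    have nrm_mul : ∀ u w, nrm (u * w) = nrm u * nrm w := fun u w => by
      simp only [nrm, map_mul, Finset.prod_mul_distrib]
    have nrm_inv : ∀ u, nrm u⁻¹ = (nrm u)⁻¹ := fun u => by
      simp only [nrm, map_inv, Finset.prod_inv_distrib]
    have nrm_fix : ∀ w : ↥B, (∀ d ∈ D, d ∈ cz (w : G)) → nrm w = w ^ m := by
      intro w hw
      have : ∀ q : ↥D ⧸ K', conjHom B (q.out : G) (hinv _) w = w := fun q =>
        Subtype.ext (conj_eq_of_mem (hw _ q.out.2))
      simp only [nrm, this, Finset.prod_const, Finset.card_univ, hcard]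
    have nrm_shift : ∀ (d : ↥D) (w : ↥B), nrm (conjHom B (d : G) (hinv d) w) = nrm w := by
      intro d w
      refine Fintype.prod_equiv (Equiv.mulRight (d : ↥D ⧸ K')) _ _ fun q => ?_
      refine Eq.trans ?_ (hcongr (q.out * d) _ w (by
        rw [QuotientGroup.out_eq', QuotientGroup.mk_mul, QuotientGroup.out_eq']; rfl))
      exact Subtype.ext (by simp [conjHom, mul_assoc])
    have nrm_conj : ∀ (g : G), g ∈ C → ∀ w : ↥B,
        conjHom B g (hinv g) (nrm w) = nrm (conjHom B g (hinv g) w) := by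
      intro g hg w
      let σ : ↥D ⧸ K' → ↥D ⧸ K' := fun q =>
        ((⟨g * (q.out : G) * g⁻¹, hDn' g hg _ q.out.2⟩ : ↥D) : ↥D ⧸ K')
      have hσ : Function.Injective σ := by
        intro q q' h
        have h50 := QuotientGroup.eq.1 h
        have h5 : (g * (q.out : G) * g⁻¹)⁻¹ * (g * (q'.out : G) * g⁻¹) ∈ K := h50
        have h6 := hKn.conj_mem _ h5 g⁻¹
        rw [← QuotientGroup.out_eq' q, ← QuotientGroup.out_eq' q']
        refine QuotientGroup.eq.2 ?_
        show (q.out : G)⁻¹ * q'.out ∈ K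
        simpa [mul_assoc] using h6
      simp only [nrm, map_prod]
      refine Fintype.prod_equiv (Equiv.ofBijective σ (Finite.injective_iff_bijective.1 hσ)) _ _ fun q => ?_
      refine Eq.trans ?_ (hcongr ⟨g * (q.out : G) * g⁻¹, hDn' g hg _ q.out.2⟩ _ _ (QuotientGroup.out_eq' _).symm)
      exact Subtype.ext (by simp [conjHom, mul_assoc])
    have hpow : ∀ w ∈ B, w ^ m ∈ fixedPart t B → w ∈ fixedPart t B := by
      intro w hw h
      obtain ⟨n, hn⟩ := exists_pow_eq_self_of_coprime (x := w) (n := m)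
        ((E.hr.coprime_iff_not_dvd.2 hrm).symm.coprime_dvd_right (orderOf_dvd_of_pow_eq_one (MB.exp w hw)))
      exact hn ▸ pow_mem h n
    set v₁ : ↥B := conjHom B d₀ (hinv d₀) ⟨v, hv⟩ * ⟨v, hv⟩⁻¹ with hv₁
    have hv₁P : (v₁ : G) ∉ fixedPart t B := fun h => hd₀v ⟨hd₀.1, h⟩
    have hN1 : nrm v₁ = 1 := by
      rw [hv₁, nrm_mul, nrm_inv, nrm_shift ⟨d₀, hd₀⟩, mul_inv_cancel]
    have hnfix : ∃ d ∈ D, d ∉ stab t B (v₁ : G) := by
      by_contra hall
      push Not at hall
      refine hv₁P (hpow _ v₁.2 ?_)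
      have hmem : ∀ q : ↥D ⧸ K', conjHom B (q.out : G) (hinv _) v₁ * v₁⁻¹ ∈ (fixedPart t B).subgroupOf B :=
        fun q => mem_subgroupOf.2 (hall _ q.out.2).2
      have h7 : ∏ q : ↥D ⧸ K', conjHom B (q.out : G) (hinv _) v₁ * v₁⁻¹ ∈ (fixedPart t B).subgroupOf B :=
        prod_mem fun q _ => hmem q
      rw [Finset.prod_mul_distrib, Finset.prod_const, Finset.card_univ, hcard,
        show (∏ q : ↥D ⧸ K', conjHom B (q.out : G) (hinv _) v₁) = 1 from hN1, one_mul, inv_pow,
        inv_mem_iff, mem_subgroupOf] at h7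
      exact h7
    obtain ⟨d₁, hd₁, hd₁'⟩ := hnfix
    set w₁ : ↥B := ⟨y, hy⟩ * v₁ with hw₁
    have hstab : stab t B (w₁ : G) ≤ C₁ := by
      intro g hg
      refine ⟨hg.1, hpow _ (MB.delta_mem hy g) ?_⟩
      have hNz : nrm w₁ = (⟨y, hy⟩ : ↥B) ^ m := by
        rw [hw₁, nrm_mul, hN1, mul_one, nrm_fix _ fun d hd => hd.2]
      have hp : conjHom B g (hinv g) w₁ * w₁⁻¹ ∈ (fixedPart t B).subgroupOf B := mem_subgroupOf.2 hg.2
      have hNp := nrm_fix _ fun d hd => (mem_fixedPart.1 (mem_subgroupOf.1 hp)).2 hd.1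
      rw [nrm_mul, nrm_inv, ← nrm_conj g hg.1, hNz, map_pow] at hNp
      have h8 : ((conjHom B g (hinv g) ⟨y, hy⟩) * (⟨y, hy⟩ : ↥B)⁻¹) ^ m ∈ (fixedPart t B).subgroupOf B := by
        rw [mul_pow, inv_pow, hNp]
        exact pow_mem hp m
      exact mem_subgroupOf.1 h8
    have hw₁P : (w₁ : G) ∉ fixedPart t B := by
      intro h
      have hCle : C ≤ C₁ := fun g hg => hstab ⟨hg, by rw [fix_conj h hg, mul_inv_cancel]; exact one_mem _⟩
      rw [relIndex_eq_one.2 hCle] at hC1idx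
      omega
    have hle₁ : ∀ g ∈ stab t B (w₁ : G), g ∈ stab t B (v₁ : G) := by
      intro g hg
      have := MB.stab_mul (inv_mem hy) (MB.stab_inv hy (hstab hg)) hg
      simpa [hw₁] using this
    have e := Mod.relIndex_inf E.toData E.hta MB MA E.hr2 E.hk w₁.2 hw₁P
    have e3 := relIndex_mul_relIndex _ _ _ hstab (stab_le : C₁ ≤ C)
    rw [hC1idx] at e3
    rcases (Nat.dvd_prime E.hr).1 (Mod.relIndex_dvd E.toData E.hta MB MA E.hr2 w₁.2 hw₁P) with h | h <;>
      rw [h, ← e3, hk2r] at e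
    · have hr' : (stab t B (w₁ : G)).relIndex C₁ = r := by
        rw [one_mul, mul_comm 2 r] at e
        exact Nat.eq_of_mul_eq_mul_right two_pos e
      have hKs : K ≤ stab t B (w₁ : G) := (le_inf hKC (hKle _ w₁.2)).trans inf_cz_le_stab
      exact hd₁' (hle₁ _ (huniq _ hstab hKs hr' ▸ hd₁))
    · have hone : (stab t B (w₁ : G)).relIndex C₁ = 1 := by
        rw [mul_comm 2 r] at e
        have := Nat.eq_of_mul_eq_mul_left E.hr.pos e
        omega
      exact hd₁' (hle₁ _ (relIndex_eq_one.1 hone (hDC₁ hd₁)))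
  have hDK : D ≤ K := by
    intro d hd
    refine MB.mem_core fun v hv => ?_
    have h1 := MB.pow_mem_cz hv (hfix v hv d hd)
    have h2 : d ^ m ∈ cz v := hKle v hv (by
      haveI : (K.subgroupOf D).Normal := hKn.subgroupOf D
      exact (pow_index_mem (K.subgroupOf D) (⟨d, hd⟩ : ↥D) : _))
    have e : d = (d ^ r) ^ Nat.gcdA r m * (d ^ m) ^ Nat.gcdB r m := by
      rw [← zpow_natCast d r, ← zpow_natCast d m, ← zpow_mul, ← zpow_mul, ← zpow_add, ← Nat.gcd_eq_gcd_ab,
        (E.hr.coprime_iff_not_dvd.2 hrm).gcd_eq_one]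
      simp
    rw [e]
    exact mul_mem (zpow_mem h1 _) (zpow_mem h2 _)
  rw [hKidx, hm, relIndex_eq_one.2 hDK, one_mul]

theorem false' (ha : ¬ 2 ∣ a) : False := by
  obtain ⟨A, B, MA, MB⟩ := E.exists_mods ha
  have hidx := E.core_relIndex MA MB
  refine E.toData.not_malnormal E.hta E.hsolv fun g hg x hx hx' => ?_
  obtain ⟨e, -, he1, heo, hec⟩ := MA.exists_centre
  obtain ⟨f, hf, -, hfo, hfc⟩ := MB.exists_centre
  have hD := E.toData.inf_conj_index E.hta he1 hec hfc
    (by rw [heo, hfo]; exact (Nat.coprime_primes Nat.prime_two E.hr).2 E.hr2.symm) hg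
    (normalCore_le _ (MB.le_core (MB.conj_mem hf g)))
  set K := (cz t).normalCore
  have hKle : K ≤ cz t ⊓ cz (g * f * g⁻¹) := le_inf (normalCore_le _) (MB.core_le_cz (MB.conj_mem hf g))
  have hKb : K.index = b := by
    rw [← relIndex_mul_index (normalCore_le (cz t)), hidx, show (cz t).index = a from E.hta, E.hk, mul_comm]
  rw [eq_of_le_of_sz_le hKle (hKb.trans hD.symm).le]
  exact mem_inf.2 ⟨hx, mem_cz_conj.2 (hfc ▸ hx')⟩

end Pair

namespace Data

theorem target (D : Data G a b c) : Target G := by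
  by_cases ha : 2 ∣ a
  · exact D.target_of_even_a ha
  exfalso
  obtain ⟨k, hk, -, hkc, -⟩ := D.exists_k
  obtain ⟨r, hr, hr2, hrk⟩ := D.exists_odd_prime ha hk
  obtain ⟨t, ht, hta⟩ := D.exists_involution ha hk
  obtain ⟨z, hzo, hzc⟩ := D.exists_centre hk hkc ht hta hr hrk
  have hprimes : ∀ s : ℕ, s.Prime → s ∣ k → s = 2 ∨ s = r := by
    intro s hs hsk
    by_contra h
    push Not at h
    obtain ⟨w, hwo, hwc⟩ := D.exists_centre hk hkc ht hta hs hsk
    exact D.not_three_centres hta hs Nat.prime_two hr h.1 h.2 hr2.symm hwo ht hzo hwc rfl hzc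
  exact (show Pair G a b c k r t z from ⟨D, hk, D.two_dvd_k ha hk, hrk, hr, hr2, hkc, hprimes, ht, hta, hzo,
    hzc, D.solvable_cz hk hr hprimes hta⟩).false' ha

end Data

end Cfsg.Agent.ClassThree
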