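import Mathlib
import Cfsg.Agent.ClassThree.Final

/-!
# Centreless groups with at most three non-trivial class sizes
-/

set_option autoImplicit false
set_option linter.unusedSectionVars false

namespace Cfsg.Agent.ClassThree

open Cfsg.Agent.CoprimeClass Subgroup
open Cfsg.Agent.ItoRankThree (sz_dvd_of_le eq_of_le_of_sz_eq mul_ne_one ne_one_of_orderOf exists_sylow_center
  exists_conj_mem_sylow)

universe u

variable {G : Type u} [Group G] [Finite G]

theorem target_of_three (hH : Hyp G)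
    (h : Nat.card {n : ℕ | 1 < n ∧ ∃ x : G, sz x = n} ≤ 3) : Target G := by
  classical
  set T : Set ℕ := {n : ℕ | 1 < n ∧ ∃ x : G, sz x = n} with hT
  have hTfin : T.Finite := (Set.finite_range fun x : G => sz x).subset fun n hn => hn.2
  have hmem : ∀ x : G, x ≠ 1 → sz x ∈ T := fun x hx => ⟨hH.one_lt_sz hx, x, rfl⟩
  by_cases hflat : ∀ a b : G, a ≠ 1 → b ≠ 1 → sz a ∣ sz b → sz a = sz b
  · exact of_flat hH hflat
  push Not at hflat
  obtain ⟨x, y, hx, hy, hd, hne⟩ := hflat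
  obtain ⟨p, hp, hpx⟩ := Nat.exists_prime_and_dvd (hH.sz_ne_one hx)
  obtain ⟨w, hw, hwp⟩ := hH.exists_not_dvd_sz hp
  have hwx : sz w ≠ sz x := fun e => hwp (e ▸ hpx)
  have hwy : sz w ≠ sz y := fun e => hwp (e ▸ hpx.trans hd)
  have hsub : ({sz w, sz x, sz y} : Set ℕ) ⊆ T := by
    rintro _ (rfl | rfl | rfl)
    exacts [hmem w hw, hmem x hx, hmem y hy]
  have hTeq : ({sz w, sz x, sz y} : Set ℕ) = T := Set.eq_of_subset_of_ncard_le hsub (by
    rw [Set.ncard_insert_of_notMem (by simp [hwx, hwy]), Set.ncard_pair hne]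
    rw [Nat.card_coe_set_eq] at h
    exact h) hTfin
  have hall : ∀ u : G, u ≠ 1 → sz u = sz x ∨ sz u = sz y ∨ sz u = sz w := by
    intro u hu
    have := hmem u hu
    rw [← hTeq] at this
    rcases this with e | e | e
    exacts [Or.inr (Or.inr e), Or.inl e, Or.inr (Or.inl e)]
  refine (show Data G (sz x) (sz y) (sz w) from
    ⟨hH, hall, ⟨x, hx, rfl⟩, ⟨y, hy, rfl⟩, ⟨w, hw, rfl⟩, hd, hne, Nat.coprime_of_dvd fun q hq hqx hqw => ?_⟩).target
  obtain ⟨u, hu, huq⟩ := hH.exists_not_dvd_sz hq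
  rcases hall u hu with e | e | e <;> rw [e] at huq
  exacts [huq hqx, huq (hqx.trans hd), huq hqw]

end Cfsg.Agent.ClassThree
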